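import Cfsg.Agent.TH.ExG.Ab
import Cfsg.Agent.H957.EPX.G2List
import Cfsg.Agent.H444.G2S.Cases
import Cfsg.Agent.H173.PiBS.Small
import Cfsg.Agent.H138.HT.AltP
import Cfsg.Agent.H781.Cov9.Res
import Cfsg.Agent.H109.Cov.Res
import Cfsg.Agent.H354.EPV.Psp
import Cfsg.Agent.SmallSimple.PSLTwoPart
import Cfsg.Agent.HNType.Alt
import Cfsg.Agent.MTwelveType.SylowModel
import Cfsg.Agent.SporRec.J1.Words
import Cfsg.Agent.S0280
import Cfsg.Agent.S0815
import Cfsg.Agent.S2060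
import Cfsg.Agent.S2061
import Cfsg.Agent.S2065

/-!
# S3541, `G₂(q)`: the almost simple case and `boxG2` (helper78)
-/

set_option autoImplicit false
set_option linter.unusedSectionVars false

namespace Cfsg.Agent.TH.ExG

open Subgroup Cfsg.Lie Cfsg.Agent.H912.Bd Own

/-- the order `n` and the bound `o` for the outer automorphism group -/
def On (N : Type) [Group N] (n o : ℕ) : Prop := Nat.card N = n ∧ Nat.card (MulAut N) ∣ n * o

section

variable {N : Type} [Group N] {n o : ℕ}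

theorem On.of {X : Type} [Group X] (e : N ≃* X) (h1 : Nat.card X = n) (h2 : Nat.card (MulAut X) ∣ n * o) : On N n o :=
  ⟨(Nat.card_congr e.toEquiv).trans h1, (Nat.card_congr (MulAut.congr e).toEquiv).dvd.trans h2⟩

theorem On.of_out [Finite N] {X : Type} [Group X] (e : N ≃* X) (h1 : Nat.card X = n) (h2 : Nat.card (Out X) = o) :
    On N n o := .of e h1 (by
  rw [card_eq_card_quotient_mul_card_subgroup (MulAut.conj : X →* MulAut X).range, mul_comm n, ← h1, ← h2]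
  exact Nat.mul_dvd_mul_left _ (card_range_dvd _))

theorem on_psl {p f q : ℕ} (h : IsL 2 q N) (hp : p.Prime) (hf : 1 ≤ f) (hq : q = p ^ f) (h4 : 4 ≤ q)
    (h1 : Odd q ∧ q * (q ^ 2 - 1) = 2 * n ∨ Even q ∧ q * (q ^ 2 - 1) = n) (h2 : f * (q * (q ^ 2 - 1)) = n * o) :
    On N n o := by
  obtain ⟨K, _, _, hK, ⟨e⟩⟩ := h
  subst hq
  refine .of e ?_ ((H781.Cov9.card_mulAut_psl hp hf hK h4).trans h2).dvd
  rcases h1 with h1 | h1
  · have h3 := SmallSimple.PSLTwoPart.card_psl_two_odd (F := K) (hK ▸ h1.1)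
    rw [hK] at h3
    omega
  · rw [SmallSimple.PSLTwoPart.card_psl_two_even (F := K) (hK ▸ h1.1), hK, h1.2]

theorem on_list {p : ℕ} (h : H957.EPX.G2List p N) : ∃ n o, On N n o ∧ 0 < n ∧ 0 < o ∧ o < 5 ∧
    ∀ k < 5, k ∣ o → n * k ∈ lS ∨ (p ≠ 3 ∧ n * k = 12096) := by
  have h1 : ∀ {n o}, On N n o → (0 < n ∧ 0 < o ∧ o < 5 ∧ ∀ k < 5, k ∣ o → n * k ∈ lS) → ∃ n o, On N n o ∧ 0 < n ∧ 0 < o ∧
      o < 5 ∧ ∀ k < 5, k ∣ o → n * k ∈ lS ∨ (p ≠ 3 ∧ n * k = 12096) := fun h1 h2 =>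
    ⟨_, _, h1, h2.1, h2.2.1, h2.2.2.1, fun k h3 h4 => Or.inl (h2.2.2.2 k h3 h4)⟩
  have h2 : ∀ c, 2 ≤ c → Nat.card (alternatingGroup (Fin c)) = c.factorial / 2 := fun c hc => by
    have := Fin.nontrivial_iff_two_le.2 hc
    rw [nat_card_alternatingGroup, Nat.card_fin]
  rcases h with ⟨⟨e⟩⟩ | ⟨-, ⟨e⟩⟩ | ⟨-, ⟨e⟩⟩ | ⟨-, -, h⟩ | ⟨-, h⟩ | ⟨-, h⟩ | ⟨-, h⟩ | ⟨h3, K, _, _, hK, ⟨e⟩⟩ |
    ⟨-, -, K, _, _, hK, ⟨e⟩⟩ | ⟨-, K, _, _, hK, ⟨e⟩⟩
  · exact h1 (n := 60) (o := 2) (.of e (h2 5 (by norm_num)) (H138.HT.card_aut_alt 5 (by norm_num) (by norm_num)).dvd)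
      (by decide)
  · exact h1 (n := 360) (o := 4) (.of e (h2 6 (by norm_num)) H138.HT.card_aut_six_dvd) (by decide)
  · exact h1 (n := 2520) (o := 2) (.of e (h2 7 (by norm_num)) (H138.HT.card_aut_alt 7 (by norm_num) (by norm_num)).dvd)
      (by decide)
  · exact h1 (n := 168) (o := 2) (on_psl (p := 7) h (by norm_num) le_rfl rfl (by norm_num) (by decide) rfl) (by decide)
  · exact h1 (n := 504) (o := 3) (on_psl (f := 3) h Nat.prime_two (by norm_num) rfl (by norm_num) (by decide) rfl)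
      (by decide)
  · exact h1 (n := 660) (o := 2) (on_psl (p := 11) h (by norm_num) le_rfl rfl (by norm_num) (by decide) rfl) (by decide)
  · exact h1 (n := 1092) (o := 2) (on_psl (p := 13) h (by norm_num) le_rfl rfl (by norm_num) (by decide) rfl)
      (by decide)
  · have := Fact.mk Nat.prime_three
    have h4 := S0280.result hK 3 (by norm_num)
    have h5 := S0815.result 3 1 le_rfl (q := 3) rfl hK 3 le_rfl (by norm_num)
    simp only [Finset.prod_range_succ, Finset.prod_range_zero] at h4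
    norm_num [Nat.even_iff] at h4 h5
    refine ⟨6048, 2, .of e (by omega) (dvd_of_eq (by omega)), by norm_num, by norm_num, by norm_num, fun k h6 h7 => ?_⟩
    exact ((by decide : ∀ k < 5, k ∣ 2 → 6048 * k ∈ lS ∨ 6048 * k = 12096) k h6 h7).imp_right fun h => ⟨h3, h⟩
  · have := Fact.mk Nat.prime_two
    have h4 := S0280.result hK 4 (by norm_num)
    have h5 := S0815.result 2 1 le_rfl (q := 2) rfl hK 4 (by norm_num) (by norm_num)
    simp only [Finset.prod_range_succ, Finset.prod_range_zero] at h4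
    norm_num [Nat.even_iff] at h4 h5
    exact h1 (n := 25920) (o := 2) (.of e (by omega) (dvd_of_eq (by omega))) (by decide)
  · have h4 := H354.EPV.card_psp hK (m := 3) (by norm_num)
    have h5 := H354.EPV.card_aut Nat.prime_two (f := 1) le_rfl hK (m := 3) (by norm_num) (by norm_num)
    simp only [Finset.prod_range_succ, Finset.prod_range_zero] at h4 h5
    norm_num at h4 h5
    exact h1 (n := 1451520) (o := 1) (.of e h4 h5.dvd) (by decide)

theorem On.exists {a : ℕ} (h : On N n o) (h1 : Nat.card N ∣ a) (h2 : a ∣ Nat.card (MulAut N)) (hn : 0 < n) :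
    ∃ k, k ∣ o ∧ a = n * k := by
  obtain ⟨k, rfl⟩ := h.1 ▸ h1
  exact ⟨k, Nat.dvd_of_mul_dvd_mul_left hn (h2.trans h.2), rfl⟩

end

namespace Cx

variable {G : Type} [Group G] [Finite G] {T H N : Subgroup G} {m p f : ℕ} {F : Type} [Field F] [Fintype F]
  (c : Cx T H m p f F)

include c

theorem dvd_factorial (h : Sim T H N) :
    Nat.card ↥(H ⊓ T) ∣ (Nat.gcd (Nat.card ↥(H ⊓ T)) (og (p ^ f) / Nat.card ↥(H ⊓ T) - 1)).factorial := by
  obtain ⟨g, hg⟩ := c.half.exists_not_mem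
  have := h.simple
  have h1 : ((cj g H).subgroupOf (H ⊓ T)).normalCore = ⊥ := by
    set C := ((cj g H).subgroupOf (H ⊓ T)).normalCore.map (H ⊓ T).subtype with hC
    have h1 : ∀ x ∈ N, cj x C = C := fun x hx => nm_of_conj (by
      rintro _ ⟨y, hy, rfl⟩
      exact ⟨_, (normalCore_normal _).conj_mem y hy ⟨x, h.le hx⟩, rfl⟩)
    rcases Sv.inf_eq_bot_or_le h1 with h2 | h2
    · have h3 := Sv.comm_of_inf h1 (fun x hx => nm_of_conj (h.nrm x (map_subtype_le _ hx).1)) h2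
      exact eq_bot_iff.2 fun x hx => Subtype.ext (h.cent x x.2.2 fun y hy => (h3 y hy x ⟨x, hx, rfl⟩).symm)
    · exact absurd (inv_mem_iff.1 (h.mem_of_le c.allK c.as c.half ((cj_le_iff _).2 (by
        rw [inv_inv]
        exact h2.trans (map_le_iff_le_comap.2 (normalCore_le _)))))) hg
  exact (H173.PiBS.card_dvd_factorial _ h1).trans (Nat.factorial_dvd_factorial (Nat.le_of_dvd
    (Nat.gcd_pos_of_pos_left _ Nat.card_pos) ((Nat.dvd_gcd (index_dvd_card _) (c.as.relIndex_dvd_d c.half g)).trans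
      c.gcd_dvd)))

theorem sim (h : Sim T H N) : False := by
  have := c.char
  have := Fact.mk c.prime
  have := h.simple
  obtain ⟨e⟩ := c.iso
  have hna := ExT.Mu.ne_comm h.nonab
  have hf : Function.Injective (e.toMonoidHom.comp (inclusion (h.le.trans inf_le_right))) :=
    e.injective.comp (inclusion_injective _)
  refine num_sim c.prime c.three c.nm (c.dvd_factorial h) ?_
  have h1 : ∀ {n o}, On N n o → 0 < n → ∃ k, k ∣ o ∧ Nat.card ↥(H ⊓ T) = n * k := fun h1 =>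
    h1.exists h.card_dvd h.card_dvd_aut
  by_cases hs : IsSporadicGroup N
  · have h2 : ∀ k, k ∣ 2 → k = 1 ∨ k = 2 := fun k => (Nat.dvd_prime Nat.prime_two).1
    rcases H444.G2S.spor_cases (p := p) hna (e.toMonoidHom.comp (inclusion (h.le.trans inf_le_right))) (fun h2 => by
      obtain ⟨a, b, hab⟩ := hna
      exact hab (hf (by rw [h2]; rfl))) hs with ⟨-, ⟨⟨d⟩⟩ | ⟨⟨d⟩⟩⟩ | ⟨-, ⟨d⟩⟩ | ⟨h3, h4⟩
    · obtain ⟨k, h4, h5⟩ := h1 (.of_out d HNType.Alt.card_M11 S2060.result) (by norm_num)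
      rw [h5, Nat.dvd_one.1 h4]
      exact Or.inl (by decide)
    · obtain ⟨k, h4, h5⟩ := h1 (.of_out d MTwelveType.SylowModel.card_M12 S2061.result) (by norm_num)
      rw [h5]
      rcases h2 k h4 with rfl | rfl <;> exact Or.inl (by decide)
    · obtain ⟨k, h4, h5⟩ := h1 (.of_out d SporRec.J1.Words.card_J1 S2065.result) (by norm_num)
      rw [h5, Nat.dvd_one.1 h4]
      exact Or.inl (by decide)
    · obtain ⟨k, h5, h6⟩ := h1 (n := 604800) (o := 2)
        ⟨(Nat.card_congr h4.some.toEquiv).trans H109.Cov.card_j2, H109.Cov.aut_j2 h4⟩ (by norm_num)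
      rw [h6]
      rcases h2 k h5 with rfl | rfl
      · exact Or.inl (by decide)
      · exact Or.inr (Or.inr ⟨h3, rfl⟩)
  · obtain ⟨n, o, h2, h3, h4, h5, h6⟩ := on_list (H957.EPX.g2_list hna _ hf (c.allK N) hs fun h2 =>
      c.nown (Cl.Cases.hasOwn_of (h.le.trans inf_le_left) h.nrm h.simple h.nonab h2))
    obtain ⟨k, h7, h8⟩ := h1 h2 h3
    rw [h8]
    exact (h6 k ((Nat.le_of_dvd h4 h7).trans_lt h5) h7).imp_right Or.inl

end Cx

end Cfsg.Agent.TH.ExG

namespace Cfsg.Agent.TH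

/-- **the socle `G₂(q)`** -/
theorem boxG2 : BoxG2 := by
  rintro hK G _ _ T H m p c ho ⟨F, _, _, hF, h3, e⟩
  obtain ⟨f, -, hf⟩ := FiniteField.card F p
  have cx : ExG.Cx T H m p f F := ⟨c, hK, ho, hF, hf, hf ▸ h3, e⟩
  rcases boxTri G T H m c.as c.half with ⟨E, r, h⟩ | ⟨N, h⟩ | ⟨𝓢, h⟩
  · exact cx.ab h
  · exact cx.sim h
  · exact cx.mul h

end Cfsg.Agent.TH
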