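import Cfsg.Agent.TH.Sim.Loop

/-!
# S3541, `G₂(q)`: the numerical conditions (helper78)
-/

set_option autoImplicit false
set_option linter.unusedSectionVars false

namespace Cfsg.Agent.TH.ExG

open Sv Sim

/-- the order -/
def og (q : ℕ) : ℕ := q ^ 6 * (q ^ 2 - 1) * (q ^ 6 - 1)

/-- the order of a maximal parabolic subgroup -/
def cP (q : ℕ) : ℕ := q ^ 6 * (q ^ 2 - 1) * (q - 1)

def c2 (q : ℕ) : ℕ := q ^ 2 * (q ^ 2 - 1) ^ 2

def c3 (q : ℕ) : ℕ := q ^ 6 * (q + 1) ^ 2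

def c5 (q : ℕ) : ℕ := q ^ 2 * (q + 1) ^ 2

/-- a bound for the centralisers of the elements of prime order `s` -/
def cb (q p s : ℕ) : ℕ := if s = p then cP q else if s = 2 then c2 q else if s = 3 then c3 q else c5 q

/-- a bound for the centralisers of the non-trivial elements of a subgroup of order `a` -/
def cm (q p a : ℕ) : ℕ :=
  max (max (if a % p = 0 then cP q else 0) (if a % 3 = 0 then c3 q else 0)) (max (if a % 2 = 0 then c2 q else 0) (c5 q))

theorem cb_le_cm {q p a s : ℕ} (h : s ∣ a) : cb q p s ≤ cm q p a := by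
  have h1 := Nat.mod_eq_zero_of_dvd h
  unfold cb cm
  split_ifs <;> simp_all

/-- the necessary conditions, `a = |H ⊓ T|`, `o` a multiple of `|G : T|` -/
structure Nm (q p o a : ℕ) : Prop where
  dvd : a ∣ og q
  p_dvd : p ∣ og q / a
  g1 : Nat.gcd a (og q / a - 1) ≠ 1
  el : ∀ s, s.Prime → s ∣ a → ¬ s ∣ Nat.gcd a (og q / a - 1) → og q ≤ cb q p s * (Nat.gcd a (og q / a - 1) * (a - 1))
  sig : (a / Nat.gcd a (og q / a - 1) - 1) * (og q / cm q p a) ≤ (a - 1) ^ 2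
  pl : 3 ∣ a → 3 ≤ Nat.gcd (a * o) (og q / a - 1)
  lin : 4 * a ^ 2 ≤ og q / cm q p a → og q / a ≤ 3 * (a * o) ^ 2

/-- the test for the prime `s` -/
def elT (q p a N G s : ℕ) : Bool :=
  Nat.beq (a % s) 0 && (!Nat.beq (G % s) 0 && !Nat.ble N (cb q p s * (G * (a - 1))))

/-- the test; `fa` : use `a ∣ G !` -/
def bad (fa : Bool) (q p o a : ℕ) : Bool :=
  frc (og q) fun N => !Nat.beq (N % a) 0 || frc (N / a) fun n => !Nat.beq (n % p) 0 ||
    frc (Nat.gcd a (n - 1)) fun G => Nat.beq G 1 || (elT q p a N G p || (elT q p a N G 2 || (elT q p a N G 3 ||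
      ((!Nat.ble N (c5 q * (G * (a - 1))) && frc (a / Nat.gcd a ((6 * p * G) ^ 21)) fun b =>
        !Nat.beq b 1 && Nat.beq (Nat.gcd b (6 * p * G)) 1) ||
      ((Nat.beq (a % 3) 0 && !Nat.ble 3 (Nat.gcd (a * o) (n - 1))) ||
      ((fa && (Nat.ble G 10 && !Nat.beq (Nat.factorial G % a) 0)) ||
      frc (N / cm q p a) fun c => !Nat.ble ((a / G - 1) * c) ((a - 1) ^ 2) ||
        (Nat.ble (4 * a ^ 2) c && !Nat.ble n (3 * (a * o) ^ 2))))))))

theorem Nm.not_bad {q p o a : ℕ} (h : Nm q p o a) (hp : p.Prime) {fa : Bool}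
    (hf : fa = true → a ∣ (Nat.gcd a (og q / a - 1)).factorial) : bad fa q p o a = false := by
  have h1 : ∀ s, s.Prime → elT q p a (og q) (Nat.gcd a (og q / a - 1)) s = false := fun s hs => by
    rw [← Bool.not_eq_true]
    simp only [elT, Bool.and_eq_true, Bool.not_eq_true', ← Bool.not_eq_true, Nat.beq_eq, Nat.ble_eq,
      ← Nat.dvd_iff_mod_eq_zero]
    exact fun h2 => h2.2.2 (h.el s hs h2.1 h2.2.1)
  rw [← Bool.not_eq_true]
  simp only [bad, frc_eq, h1 p hp, h1 2 Nat.prime_two, h1 3 Nat.prime_three, Bool.false_or, Bool.or_eq_true,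
    Bool.and_eq_true, Bool.not_eq_true', ← Bool.not_eq_true, Nat.beq_eq, Nat.ble_eq, ← Nat.dvd_iff_mod_eq_zero]
  rintro (h2 | h2 | h2 | ⟨h2, h3, h4⟩ | h2 | h2 | h2 | h2)
  · exact h2 h.dvd
  · exact h2 h.p_dvd
  · exact h.g1 h2
  · obtain ⟨s, hs, h5⟩ := Nat.exists_prime_and_dvd h3
    have h6 : ¬ s ∣ 6 * p * Nat.gcd a (og q / a - 1) := fun h6 => hs.one_lt.ne' (Nat.dvd_one.1 (h4 ▸ Nat.dvd_gcd h5 h6))
    have h7 := h.el s hs (h5.trans (Nat.div_dvd_of_dvd (Nat.gcd_dvd_left _ _))) fun h7 => h6 (h7.mul_left _)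
    rw [cb, if_neg, if_neg, if_neg] at h7
    · exact h2 h7
    · rintro rfl
      exact h6 (((by norm_num : 3 ∣ 6).mul_right p).mul_right _)
    · rintro rfl
      exact h6 (((by norm_num : 2 ∣ 6).mul_right p).mul_right _)
    · rintro rfl
      exact h6 ((dvd_mul_left _ 6).mul_right _)
  · exact h2.2 (h.pl h2.1)
  · exact h2.2.2 (hf h2.1)
  · exact h2 h.sig
  · exact h2.2 (h.lin h2.1)

theorem Nm.big {q p o a : ℕ} (h : Nm q p o a) (hp : p.Prime) (hq : 4 ≤ q) (ho : o ≤ q) :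
    p * q ^ 5 ≤ a ^ 2 ∨ q ^ 6 < 8 * a ^ 2 := by
  obtain ⟨k, hk⟩ : ∃ k, q = k + 1 := ⟨q - 1, by omega⟩
  obtain ⟨A, hA⟩ : ∃ A, q ^ 2 = A + 1 := ⟨q ^ 2 - 1, (Nat.sub_add_cancel (Nat.one_le_pow _ _ (by omega))).symm⟩
  obtain ⟨B, hB⟩ : ∃ B, q ^ 6 = B + 1 := ⟨q ^ 6 - 1, (Nat.sub_add_cancel (Nat.one_le_pow _ _ (by omega))).symm⟩
  have hA' : A = k * (q + 1) := by nlinarith
  have h0 : 0 < q ^ 5 := by positivity
  have hB' : k * q ^ 5 ≤ B := by
    have : q ^ 6 = k * q ^ 5 + q ^ 5 := by rw [pow_succ q 5]; nth_rw 2 [hk]; ring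
    omega
  have hN : og q = q ^ 6 * A * B := by rw [og, hA, Nat.add_sub_cancel]; nth_rw 2 [hB]; rw [Nat.add_sub_cancel]
  have hA0 : 15 ≤ A := by nlinarith
  have hB0 : 0 < B := lt_of_lt_of_le (Nat.mul_pos (by omega) h0) hB'
  have hN0 : 0 < og q := by rw [hN]; positivity
  have ha0 : 0 < a := Nat.pos_of_dvd_of_pos h.dvd hN0
  by_cases hpa : p ∣ a
  · left
    have h1 : ¬ p ∣ Nat.gcd a (og q / a - 1) := fun h1 => by
      have h2 := Nat.dvd_sub h.p_dvd (h1.trans (Nat.gcd_dvd_right _ _))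
      rw [Nat.sub_sub_self (Nat.div_pos (Nat.le_of_dvd hN0 h.dvd) ha0)] at h2
      exact hp.one_lt.ne' (Nat.dvd_one.1 h2)
    have h2 := h.el p hp hpa h1
    have h3 := Nat.le_of_dvd ha0 (((Nat.Prime.coprime_iff_not_dvd hp).2 h1).mul_dvd_of_dvd_of_dvd hpa (Nat.gcd_dvd_left _ _))
    generalize Nat.gcd a (og q / a - 1) = G at *
    rw [cb, if_pos rfl, cP, hN, hA, Nat.add_sub_cancel, show q - 1 = k by omega, mul_assoc (q ^ 6 * A)] at h2
    have h4 := Nat.le_of_mul_le_mul_left (hB'.trans (Nat.le_of_mul_le_mul_left h2 (by positivity))) (by omega)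
    calc p * q ^ 5 ≤ p * (G * a) := Nat.mul_le_mul_left _ (h4.trans (Nat.mul_le_mul_left _ (Nat.sub_le _ _)))
      _ = p * G * a := by ring
      _ ≤ a ^ 2 := by rw [sq]; exact Nat.mul_le_mul_right _ h3
  right
  by_contra h8
  rw [not_lt] at h8
  have h1 : cm q p a ≤ c3 q := by
    have h2 : c5 q ≤ c3 q := Nat.mul_le_mul_right _ (Nat.pow_le_pow_right (by omega) (by omega))
    have h3 : c2 q ≤ c3 q := by
      rw [c2, c3, hA, Nat.add_sub_cancel, ← hA, hA', mul_pow, ← mul_assoc, show q ^ 6 = q ^ 2 * (q ^ 2) ^ 2 by ring]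
      exact Nat.mul_le_mul_right _ (Nat.mul_le_mul_left _ (Nat.pow_le_pow_left (by nlinarith) 2))
    rw [cm, if_neg fun h4 => hpa (Nat.dvd_of_mod_eq_zero h4)]
    split_ifs <;> simp [h2, h3]
  have h2 : 0 < cm q p a := lt_of_lt_of_le (by rw [c5]; positivity) ((le_max_right _ _).trans (le_max_right _ _))
  have h3 := h.lin ((Nat.le_div_iff_mul_le h2).2 ((Nat.mul_le_mul_left _ h1).trans (by
    have h4 : 4 * a ^ 2 * (q + 1) ≤ k * B := by
      have h5 : q + 2 ≤ q ^ 5 := by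
        calc q + 2 ≤ q ^ 2 := by nlinarith
          _ ≤ q ^ 5 := Nat.pow_le_pow_right (by omega) (by omega)
      have h6 : 8 * a ^ 2 * (q + 1) ≤ (B + 1) * (q + 1) := Nat.mul_le_mul_right _ (hB ▸ h8)
      have h7 : (q + 2) * B ≤ 2 * k * B := Nat.mul_le_mul_right _ (by omega)
      nlinarith
    rw [hN, hA', c3]
    calc _ = q ^ 6 * (q + 1) * (4 * a ^ 2 * (q + 1)) := by ring
      _ ≤ q ^ 6 * (q + 1) * (k * B) := Nat.mul_le_mul_left _ h4
      _ = _ := by ring)))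
  have h4 : a ≤ q ^ 3 := by
    rw [← Nat.pow_le_pow_iff_left two_ne_zero, ← pow_mul]
    exact le_trans (by omega) h8
  have h5 : og q ≤ q ^ 3 * (3 * (q ^ 3 * q) ^ 2) := by
    rw [← Nat.mul_div_cancel' h.dvd]
    exact Nat.mul_le_mul h4 (h3.trans (Nat.mul_le_mul_left _ (Nat.pow_le_pow_left (Nat.mul_le_mul h4 ho) 2)))
  have h6 : q ^ 6 * 15 * q ^ 5 ≤ og q := by
    rw [hN]
    exact Nat.mul_le_mul (Nat.mul_le_mul_left _ hA0) (le_trans (Nat.le_mul_of_pos_left _ (by omega)) hB')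
  have h7 : 0 < q ^ 11 := by positivity
  have h9 := h6.trans h5
  rw [show q ^ 6 * 15 * q ^ 5 = 15 * q ^ 11 by ring, show q ^ 3 * (3 * (q ^ 3 * q) ^ 2) = 3 * q ^ 11 by ring] at h9
  omega

/-- the bound for the outer automorphism group -/
def ob (p f : ℕ) : ℕ := if p = 3 then 2 * f else f

theorem ob_le {p f : ℕ} (hp : p.Prime) : ob p f ≤ p ^ f := by
  unfold ob
  split_ifs with h
  · subst h
    induction f with
    | zero => simp
    | succ f ih =>
      have : 0 < 3 ^ f := by positivity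
      rw [pow_succ]
      omega
  · exact (Nat.lt_pow_self hp.one_lt).le

/-- the orders of the almost simple groups -/
def lS : List ℕ := [60, 120, 360, 720, 1440, 2520, 5040, 168, 336, 504, 1512, 660, 1320, 1092, 2184, 6048, 25920, 51840,
  1451520, 7920, 95040, 190080, 175560, 604800]

/-- the divisors of `2688` -/
def lE : List ℕ := [8, 16, 32, 64, 128, 24, 48, 96, 384, 56, 112, 224, 448, 896, 168, 336, 672, 1344, 2688]

/-- the checks for one field -/
def chk (p f : ℕ) : Bool :=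
  frc (p ^ f) fun q => !Nat.ble 3 q || (Nat.ble 254 q || frc (ob p f) fun o =>
    (allL lS (bad true q p o) && ((Nat.beq p 3 || bad true q p o 12096) && (!Nat.beq p 2 || bad true q p o 1209600))) &&
    ((Nat.beq p 2 || (allL lE (bad false q p o) && (Nat.beq q 3 || bad false q p o 192))) &&
    frc (12 * (q + 1) ^ 2) fun b => (Nat.ble 4 q && (!Nat.ble (p * q ^ 5) (b ^ 2) && Nat.ble (8 * b ^ 2) (q ^ 6))) ||
      allR (fun a => bad false q p o a || ((Nat.beq q 3 && (Nat.beq a 189 || Nat.beq a 192)) ||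
        (Nat.beq q 4 && Nat.beq a 224))) (b + 1) 0))

theorem chk_all : allR (fun p => comp p || allR (chk p) 8 0) 254 0 = true := by decide +kernel

theorem chk_true {p f : ℕ} (hp : p.Prime) (hf : p ^ f < 254) (h3 : 3 ≤ p ^ f) : chk p f = true := by
  have h0 : f ≠ 0 := by
    rintro rfl
    simp at h3
  have h1 := allR_sound chk_all (Nat.zero_le p) (by have := Nat.le_self_pow h0 p; omega)
  rw [comp_prime hp, Bool.false_or] at h1
  refine allR_sound h1 (Nat.zero_le f) ?_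
  by_contra h2
  have h4 : 2 ^ 8 ≤ p ^ f := (Nat.pow_le_pow_left hp.two_le 8).trans (Nat.pow_le_pow_right hp.pos (by omega))
  omega

section

variable {p f a : ℕ} (hp : p.Prime) (h3 : 3 ≤ p ^ f) (h : Nm (p ^ f) p (ob p f) a)

include hp h3 h

theorem lt_of_le (ha : a ≤ 1451520) : p ^ f < 254 := by
  by_contra h1
  have h2 := h.big hp (by omega) (ob_le hp)
  generalize p ^ f = q at *
  have h4 : 254 ^ 5 ≤ q ^ 5 := Nat.pow_le_pow_left (by omega) 5
  have h5 : 254 ^ 6 ≤ q ^ 6 := Nat.pow_le_pow_left (by omega) 6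
  have h6 : a ^ 2 ≤ 1451520 ^ 2 := Nat.pow_le_pow_left ha 2
  have h7 : 2 * q ^ 5 ≤ p * q ^ 5 := Nat.mul_le_mul_right _ hp.two_le
  omega

theorem num_sim (hf : a ∣ (Nat.gcd a (og (p ^ f) / a - 1)).factorial)
    (ha : a ∈ lS ∨ (p ≠ 3 ∧ a = 12096) ∨ (p = 2 ∧ a = 1209600)) : False := by
  have h1 := lt_of_le hp h3 h (by
    rcases ha with ha | ⟨-, rfl⟩ | ⟨-, rfl⟩
    · exact (by decide : ∀ a ∈ lS, a ≤ 1451520) a ha
    all_goals norm_num)
  have h2 := chk_true hp h1 h3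
  have h4 := h.not_bad hp (fa := true) fun _ => hf
  simp only [chk, frc_eq, Bool.or_eq_true, Bool.and_eq_true, Bool.not_eq_true', ← Bool.not_eq_true, Nat.beq_eq,
    Nat.ble_eq, allL_iff] at h2
  obtain ⟨h5, h6, h7⟩ := ((h2.resolve_left (by omega)).resolve_left (by omega)).1
  rcases ha with ha | ⟨ha, rfl⟩ | ⟨ha, rfl⟩
  · exact Bool.false_ne_true (h4 ▸ h5 a ha)
  · exact Bool.false_ne_true (h4 ▸ h6.resolve_left ha)
  · exact Bool.false_ne_true (h4 ▸ h7.resolve_left fun h8 => h8 ha)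

theorem num_eight (h2 : p ≠ 2) (h8 : 8 ∣ a) (ha : a ∣ 2688) : p ^ f = 3 ∧ a = 192 := by
  have h1 := chk_true hp (lt_of_le hp h3 h ((Nat.le_of_dvd (by norm_num) ha).trans (by norm_num))) h3
  have h4 := h.not_bad hp (fa := false) nofun
  have h5 := lt_of_le hp h3 h ((Nat.le_of_dvd (by norm_num) ha).trans (by norm_num))
  simp only [chk, frc_eq, Bool.or_eq_true, Bool.and_eq_true, Bool.not_eq_true', ← Bool.not_eq_true, Nat.beq_eq,
    Nat.ble_eq, allL_iff] at h1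
  obtain ⟨h6, h7⟩ := ((h1.resolve_left (by omega)).resolve_left (by omega)).2.1.resolve_left h2
  rcases (by decide +kernel : ∀ a ∈ Nat.divisors 2688, 8 ∣ a → a ∈ lE ∨ a = 192) a
    (Nat.mem_divisors.2 ⟨ha, by norm_num⟩) h8 with h9 | rfl
  · exact absurd (h4 ▸ h6 a h9) Bool.false_ne_true
  · exact ⟨h7.resolve_right fun h9 => Bool.false_ne_true (h4 ▸ h9), rfl⟩

theorem num_tor {c i : ℕ} (ha : a = c * i) (hc : ¬ p ∣ c) (hi : i ≤ 12) (hb : a ≤ 12 * (p ^ f + 1) ^ 2) :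
    p ^ f = 3 ∧ a = 192 := by
  have h0 : 4 ≤ p ^ f → ¬ (p * (p ^ f) ^ 5 ≤ (12 * (p ^ f + 1) ^ 2) ^ 2) →
      ¬ 8 * (12 * (p ^ f + 1) ^ 2) ^ 2 ≤ (p ^ f) ^ 6 := fun h1 h2 h4 => by
    have h5 := h.big hp h1 (ob_le hp)
    have h6 := Nat.pow_le_pow_left hb 2
    omega
  by_cases hq : p ^ f < 254
  · have h1 := chk_true hp hq h3
    have h4 := h.not_bad hp (fa := false) nofun
    simp only [chk, frc_eq, Bool.or_eq_true, Bool.and_eq_true, Bool.not_eq_true', ← Bool.not_eq_true, Nat.beq_eq,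
      Nat.ble_eq] at h1
    have h5 := allR_sound (((h1.resolve_left (by omega)).resolve_left (by omega)).2.2.resolve_left
      fun h5 => h0 h5.1 h5.2.1 h5.2.2) (Nat.zero_le a) (by omega)
    simp only [h4, Bool.false_or, Bool.or_eq_true, Bool.and_eq_true, Nat.beq_eq] at h5
    have h6 : ∀ k, p ^ k ∣ a → p ^ k ≤ 12 := fun k hk => by
      have h7 : i ≠ 0 := by
        rintro rfl
        omega
      exact (Nat.le_of_dvd (Nat.pos_of_ne_zero h7)
        ((((Nat.Prime.coprime_iff_not_dvd hp).2 hc).pow_left k).dvd_of_dvd_mul_left (ha ▸ hk))).trans hi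
    have h7 : f ≠ 0 := by
      rintro rfl
      simp at h3
    have h8 : p ∣ p ^ f := dvd_pow_self p h7
    rcases h5 with ⟨h5, h9 | h9⟩ | ⟨h5, h9⟩
    · rw [h5, Nat.prime_dvd_prime_iff_eq hp Nat.prime_three] at h8
      have := h6 3
      rw [h8, h9] at this
      omega
    · exact ⟨h5, h9⟩
    · rw [h5] at h8
      have h10 := (Nat.prime_dvd_prime_iff_eq hp Nat.prime_two).1 (hp.dvd_of_dvd_pow (n := 2) h8)
      have := h6 4
      rw [h10, h9] at this
      omega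
  · exfalso
    have h7 : 2 * (p ^ f) ^ 5 ≤ p * (p ^ f) ^ 5 := Nat.mul_le_mul_right _ hp.two_le
    generalize p ^ f = q at *
    have h1 : (12 * (q + 1) ^ 2) ^ 2 ≤ 2304 * q ^ 4 :=
      calc _ = 144 * (q + 1) ^ 4 := by ring
        _ ≤ 144 * (2 * q) ^ 4 := Nat.mul_le_mul_left _ (Nat.pow_le_pow_left (by omega) 4)
        _ = _ := by ring
    have h2 : (12 * (q + 1) ^ 2) ^ 2 * 100 ^ 4 ≤ 144 * 101 ^ 4 * q ^ 4 :=
      calc _ = 144 * (100 * (q + 1)) ^ 4 := by ring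
        _ ≤ 144 * (101 * q) ^ 4 := Nat.mul_le_mul_left _ (Nat.pow_le_pow_left (by omega) 4)
        _ = _ := by ring
    have h4 : 254 * q ^ 4 ≤ q ^ 5 := by rw [pow_succ' q 4]; exact Nat.mul_le_mul_right _ (by omega)
    have h5 : 254 * q ^ 5 ≤ q ^ 6 := by rw [pow_succ' q 5]; exact Nat.mul_le_mul_right _ (by omega)
    have h6 : 0 < q ^ 4 := by positivity
    exact h0 (by omega) (by omega) (by omega)

end

theorem num_576 {o : ℕ} (ho : o = 2) : ¬ Nm 3 3 o 576 := fun h => by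
  subst ho
  exact absurd (h.not_bad Nat.prime_three (fa := false) nofun) (by decide +kernel)

end Cfsg.Agent.TH.ExG
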