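import Cfsg.Agent.TH.ExG.Oct
import Cfsg.Agent.TH.ExG.Num
import Cfsg.Agent.SB.Low.Model
import Cfsg.Agent.SB.Low.Two
import Cfsg.Agent.SB.Low.TwoAut
import Cfsg.Agent.SB.Low.NS
import Cfsg.Agent.SB.Low.TabG
import Cfsg.Agent.VAN.Rk.Chev
import Cfsg.Agent.KFacts.RgdFiltChev
import Cfsg.Agent.KFacts.RgdBorelTits
import Cfsg.Agent.H631.VZ.Ell
import Cfsg.Agent.S4279

/-!
# S3541, `G₂(q)`: the local facts (helper78)
-/

set_option autoImplicit false
set_option linter.unusedSectionVars false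

namespace Cfsg.Agent.TH.ExG

open Subgroup Cfsg.Lie Cfsg.Agent.SB.Low

/-- `X` is a subgroup of `GL₂` over a finite field of characteristic `p` -/
def Emb (p : ℕ) (X : Type*) [Group X] : Prop :=
  ∃ (F : Type) (_ : Field F) (_ : Fintype F) (_ : CharP F p) (τ : X →* GL (Fin 2) F), Function.Injective τ

theorem Emb.of_inj {p : ℕ} {X Y : Type*} [Group X] [Group Y] (h : Emb p Y) (f : X →* Y) (hf : Function.Injective f) :
    Emb p X := by
  obtain ⟨F, _, _, _, τ, hτ⟩ := h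
  exact ⟨F, inferInstance, inferInstance, inferInstance, τ.comp f, hτ.comp hf⟩

/-- the local facts on `T ≅ G₂(q)` -/
structure Gr (p q : ℕ) {G : Type} [Group G] (T : Subgroup G) : Prop where
  card : Nat.card T = og q
  np : ∀ P ≤ T, P ≠ ⊥ → IsPGroup p P → Nat.card ↥(Nz P ⊓ T) ≤ cP q
  cb : ∀ x ∈ T, (orderOf x).Prime → Nat.card ↥(centralizer {x} ⊓ T) ≤ cb q p (orderOf x)
  tor : ∀ r, ∀ E ≤ T, EA r E → r ≠ 2 → r ≠ p → Group.IsSolvable ↥(Cz E ⊓ T) →
    ∃ c i, Nat.card ↥(Nz E ⊓ T) = c * i ∧ ¬ p ∣ c ∧ c ≤ (q + 1) ^ 2 ∧ i ≤ 12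
  emb : ∀ r, ∀ E ≤ T, EA r E → r ≠ 2 → r ≠ p → (r = 3 ∧ QL p ↥(Cz E ⊓ T)) ∨ Emb p ↥(Cz E ⊓ T)
  rk : p ≠ 2 → ∀ E ≤ T, EA 2 E → Nat.card E = 2 ∨
    (Nat.card E = 4 ∧ ∃ c i, Nat.card ↥(Nz E ⊓ T) = c * i ∧ ¬ p ∣ c ∧ c ≤ 2 * (q + 1) ^ 2 ∧ i ≤ 6) ∨
    (Nat.card E = 8 ∧ Nat.card ↥(Nz E ⊓ T) ∣ 2688)
  inv : p ≠ 2 → ∀ t ∈ T, orderOf t = 2 → Nat.card ↥(centralizer {t} ⊓ T) = c2 q ∧
    (q ≠ 3 → ∃ L M : Subgroup G, L ≤ M ∧ M ≤ centralizer {t} ⊓ T ∧ M ≤ Nz L ∧ M.relIndex (centralizer {t} ⊓ T) = 2 ∧ QL p L)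

section transfer

variable {G K : Type} [Group G] [Group K] {j : K →* G} (hj : Function.Injective j)

include hj

theorem cent_map (S : Set K) : centralizer (j '' S) ⊓ j.range = (centralizer S).map j := by
  ext g
  constructor
  · rintro ⟨h, k, rfl⟩
    exact ⟨k, fun x hx => hj (by rw [map_mul, map_mul]; exact h _ ⟨x, hx, rfl⟩), rfl⟩
  · rintro ⟨k, hk, rfl⟩
    refine ⟨?_, k, rfl⟩
    rintro _ ⟨x, hx, rfl⟩
    rw [← map_mul, ← map_mul, hk x hx]

theorem cent_map' (x : K) : centralizer {j x} ⊓ j.range = (centralizer {x}).map j := by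
  rw [← cent_map hj, Set.image_singleton]

theorem cz_map (E : Subgroup K) : Cz (E.map j) ⊓ j.range = (Cz E).map j := cent_map hj E

theorem nz_map (E : Subgroup K) : Nz (E.map j) ⊓ j.range = (Nz E).map j := by
  have h1 : ∀ x, j x ∈ E.map j ↔ x ∈ E := fun x => mem_map_iff_mem hj
  ext g
  constructor
  · rintro ⟨h, k, rfl⟩
    refine ⟨k, mem_normalizer_iff.2 fun x => ?_, rfl⟩
    rw [← h1, mem_normalizer_iff.1 h, ← h1, map_mul, map_mul, map_inv]
  · rintro ⟨k, hk, rfl⟩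
    exact ⟨le_normalizer_map j ⟨k, hk, rfl⟩, k, rfl⟩

theorem ea_of_map {r : ℕ} {E : Subgroup K} (h : EA r (E.map j)) : EA r E :=
  ⟨h.prime, fun h0 => h.ne_bot (by rw [h0, Subgroup.map_bot]),
    fun x hx => hj (by rw [map_pow, map_one]; exact h.pow _ ⟨x, hx, rfl⟩),
    fun x hx y hy => hj (by rw [map_mul, map_mul]; exact h.comm _ ⟨x, hx, rfl⟩ _ ⟨y, hy, rfl⟩)⟩

omit hj in
theorem exists_map {E : Subgroup G} (h : E ≤ j.range) : ∃ E' : Subgroup K, E = E'.map j :=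
  ⟨E.comap j, (map_comap_eq_self h).symm⟩

end transfer

theorem card_nz {K : Type} [Group K] [Finite K] (E : Subgroup K) :
    Nat.card (Nz E) = Nat.card (Cz E) * (Cz E).relIndex (Nz E) := by
  rw [relIndex, ← Nat.card_congr (subgroupOfEquivOfLe (Cz_le_Nz (E := E))).toEquiv, card_mul_index]

theorem card_aut_eight {K : Type} [Group K] [Finite K] {E : Subgroup K} (h : EA 2 E) (h8 : Nat.card E = 8) :
    Nat.card (MulAut E) = 168 :=
  StdL2.G23Aut.card_aut (fun v => Subtype.ext (by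
    have := h.pow v v.2
    rwa [pow_two] at this)) h8

section model

variable {F : Type} [Field F] [Fintype F] {p : ℕ} [hp : Fact p.Prime] [CharP F p]

open Cfsg.Agent.Nodes.RGDChev Cfsg.Agent.VAN.Rk in
theorem np_model {P : Subgroup ↥(chevG2.group F)} (h0 : P ≠ ⊥) (hP : IsPGroup p P) :
    Nat.card (Nz P) ≤ cP (Fintype.card F) := by
  have hW := finite_W hpG2 CoxeterMatrix.G₂.toCoxeterSystem
  have H := Chev.two (F := F) hpG2 p (by decide)
  obtain ⟨g, J, hJ, -, hle⟩ := KFacts.RgdBorelTits.borel_tits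
    (KFacts.RgdFiltChev.filt (K := F) hpG2 CoxeterMatrix.G₂.toCoxeterSystem p) H.top hP h0
  obtain ⟨b, hb⟩ : ∃ b : Bool, J ⊆ {cond b 0 1} := by
    obtain ⟨i, hi⟩ := (Set.ne_univ_iff_exists_notMem J).1 hJ
    fin_cases i
    · exact ⟨false, fun k hk => by fin_cases k; exacts [absurd hk hi, rfl]⟩
    · exact ⟨true, fun k hk => by fin_cases k; exacts [rfl, absurd hk hi]⟩
  have h1 : Nat.card (Nz P) ≤ Nat.card (H.r2.Par b) := by
    rw [H.Par_eq]
    exact (card_le_of_le hle).trans ((card_map_of_injective (MulAut.conj g).injective).trans_le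
      (card_le_of_le (H631.VZ.PJ_mono _ _ hb)))
  have h2 : ∀ b, H.r2.q b = Fintype.card F := fun b => Chev.card_X hpG2 _
  have h3 := H.r2.card_G' b (h := 3) rfl
  rw [S1059.result rfl, h2, h2] at h3
  rw [H.r2.card_Par, h2] at h1
  refine h1.trans (le_of_eq ?_)
  obtain ⟨k, hk⟩ : ∃ k, Fintype.card F = k + 1 := ⟨Fintype.card F - 1, by have := Fintype.card_pos (α := F); omega⟩
  rw [hk] at h3 ⊢
  have h4 : (k + 1) ^ 6 - 1 = k * ((1 + (k + 1) ^ 2 + (k + 1) ^ 4) * (k + 2)) :=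
    Nat.sub_eq_of_eq_add (by ring)
  rw [h4] at h3
  refine Nat.eq_of_mul_eq_mul_right (show 0 < (1 + (k + 1) ^ 2 + (k + 1) ^ 4) * (k + 2) by positivity) ?_
  rw [cP, Nat.add_sub_cancel, mul_assoc _ k, h3]
  simp only [Finset.sum_range_succ, Finset.sum_range_zero]
  ring

open Cfsg.Agent.H161.Oct in
theorem emb_model (hq : 3 ≤ Fintype.card F) {r : ℕ} {E : Subgroup (AutO F)} (hE : EA r E) (h2 : r ≠ 2) (hr : r ≠ p) :
    (r = 3 ∧ QL p (Cz E)) ∨ Emb p (Cz E) := by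
  have : Finite (AutO F) := Finite.of_injective (fun g : AutO F => ((g : V F ≃ₗ[F] V F) : V F → V F))
    fun _ _ h => Subtype.ext (DFunLike.coe_injective h)
  have hodd := hE.prime.odd_of_ne_two h2
  have hpr : ¬ p ∣ r := fun h => hr ((Nat.prime_dvd_prime_iff_eq hp.out hE.prime).1 h).symm
  have h1 : ∀ x ∈ E, Cz E ≤ centralizer {x} := fun x hx => centralizer_le (Set.singleton_subset_iff.2 hx)
  by_cases h : ∃ x ∈ E, Emb p (centralizer ({x} : Set (AutO F)))
  · obtain ⟨x, hx, h⟩ := h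
    exact Or.inr (h.of_inj _ (inclusion_injective (h1 x hx)))
  have h3 := fun x (hx : x ∈ E) x1 => (cent_cases hq hodd hpr (hE.pow x hx) x1).resolve_left fun h4 => h ⟨x, hx, h4⟩
  obtain ⟨x, hx, x1, xo⟩ := hE.exists_ne
  obtain ⟨e, he, hd⟩ := exists_mk hq hpr (hE.pow x hx)
  have h4 := (h3 x hx x1).2 e he hd
  refine Or.inl ⟨(Nat.prime_dvd_prime_iff_eq hE.prime Nat.prime_three).1 (xo ▸ orderOf_dvd_of_pow_eq_one (h3 x hx x1).1),
    QL.congr (MulEquiv.subgroupCongr (le_antisymm (fun g hg y hy => ?_) (h4 ▸ h1 x hx))) (ql_mk hq hd)⟩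
  by_cases y1 : y = 1
  · rw [y1, one_mul, mul_one]
  rw [← (h3 y hy y1).2 e (h4 ▸ mem_centralizer_singleton_iff.2 (hE.comm y hy x hx)) hd] at hg
  exact (mem_centralizer_singleton_iff.1 hg).symm

theorem gr_of (hq : 3 ≤ Fintype.card F) {G : Type} [Group G] [Finite G] {T : Subgroup G} (e : T ≃* chevG2.group F) :
    Gr p (Fintype.card F) T := by
  have hfin : Finite (chevG2.group F) := Finite.of_equiv _ e.toEquiv
  obtain ⟨j, hj, rfl⟩ : ∃ j : chevG2.group F →* G, Function.Injective j ∧ T = j.range :=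
    ⟨T.subtype.comp e.symm.toMonoidHom, T.subtype_injective.comp e.symm.injective, by
      rw [MonoidHom.range_comp, MonoidHom.range_eq_top.2 e.symm.surjective, ← MonoidHom.range_eq_map, range_subtype]⟩
  have hO := oddG boxNS boxTabG p F hq
  have hodd : p ≠ 2 → Odd (Fintype.card F) := fun h => by
    obtain ⟨n, -, hn⟩ := FiniteField.card F p
    rw [hn]
    exact (hp.out.odd_of_ne_two h).pow
  refine ⟨?_, fun P hP h0 h1 => ?_, ?_, fun r E hT hE h2 hr hs => ?_, fun r E hT hE h2 hr => ?_, fun h2 E hT hE => ?_, ?_⟩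
  · rw [Nat.card_congr e.toEquiv, S1059.result rfl, og]
  · obtain ⟨P, rfl⟩ := exists_map hP
    rw [nz_map hj, card_map_of_injective hj]
    exact np_model (fun h => h0 (by rw [h, Subgroup.map_bot])) (h1.of_equiv (P.equivMapOfInjective j hj).symm)
  · rintro _ ⟨x, rfl⟩ hx
    rw [orderOf_injective j hj] at hx ⊢
    rw [cent_map' hj, card_map_of_injective hj, cb]
    split_ifs with h1 h2 h3
    · refine (card_le_of_le ?_).trans (np_model (p := p) (P := zpowers x) (ea_zpowers hx).ne_bot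
        (h1 ▸ (ea_zpowers hx).isPGroup))
      rw [← cz_zpowers]
      exact Cz_le_Nz
    · exact (S4279.result (hodd fun h => h1 (h2.trans h.symm)) x h2).1.le
    · exact hO.c6 x hx h2 h1
    · exact hO.c2 x hx h2 h1 h3
  · obtain ⟨E, rfl⟩ := exists_map hT
    rw [cz_map hj] at hs
    have h1 := (hO.tor r E (ea_of_map hj hE) h2 hr (Group.isSolvable_of_isSolvable_injective
      (f := ((Cz E).equivMapOfInjective j hj).toMonoidHom) (MulEquiv.injective _))).1
    rw [nz_map hj, card_map_of_injective hj]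
    exact ⟨_, _, card_nz E, h1.nd, h1.card, h1.idx⟩
  · obtain ⟨e'⟩ := exists_equiv (F := F)
    have h1 : (j.comp e'.toMonoidHom).range = j.range := by
      rw [MonoidHom.range_comp, MonoidHom.range_eq_top.2 e'.surjective, ← MonoidHom.range_eq_map]
    have hj' : Function.Injective (j.comp e'.toMonoidHom) := hj.comp e'.injective
    rw [← h1] at hT ⊢
    obtain ⟨E, rfl⟩ := exists_map hT
    rw [cz_map hj']
    exact (emb_model hq (ea_of_map hj' hE) h2 hr).imp (fun h => ⟨h.1, h.2.congr ((Cz E).equivMapOfInjective _ hj')⟩)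
      fun h => h.of_inj ((Cz E).equivMapOfInjective _ hj').symm.toMonoidHom (MulEquiv.injective _)
  · obtain ⟨E, rfl⟩ := exists_map hT
    have hE' := ea_of_map hj hE
    rw [nz_map hj, card_map_of_injective hj, card_map_of_injective hj, card_nz E]
    have h1 : (Cz E).relIndex (Nz E) ∣ Nat.card (MulAut E) := twoA_relIndex E ▸ card_subgroup_dvd_card _
    refine ((boxTwoG p F h2).rk E hE').imp_right (Or.imp (fun h => ⟨h.1, _, _, rfl, h.2.2, ?_, ?_⟩) fun h => ⟨h.1, ?_⟩)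
    · rw [sq, ← mul_assoc]
      exact h.2.1
    · exact (Nat.le_of_dvd Nat.card_pos h1).trans (twoA_card_aut_four h.1)
    · obtain ⟨k, hk⟩ := IsPGroup.iff_card.1 h.2.2.1
      have h3 := h.2.1
      rw [card_aut_eight hE' h.1] at h1
      rw [hk] at h3 ⊢
      exact Nat.mul_dvd_mul (pow_dvd_pow 2 ((Nat.pow_le_pow_iff_right one_lt_two).1 (h3.trans_eq (by norm_num : 16 = 2 ^ 4))))
        h1
  · rintro h2 _ ⟨t, rfl⟩ ht
    rw [orderOf_injective j hj] at ht
    obtain ⟨h1, L₁, L₂, ⟨e₁⟩, -, h3, -, h4, h5⟩ := S4279.result (hodd h2) t ht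
    rw [cent_map' hj, card_map_of_injective hj]
    refine ⟨h1, fun h6 => ⟨L₁.map j, (L₁ ⊔ L₂).map j, map_mono le_sup_left, map_mono h4,
      (map_mono (sup_le le_normalizer fun y hy => Cz_le_Nz fun x hx => h3 x hx y hy)).trans (le_normalizer_map j),
      by rw [relIndex_map_map_of_injective _ _ hj, h5], QL.congr (e₁.symm.trans (L₁.equivMapOfInjective j hj))
        ⟨SignalizersComponents.SLQuasisimple.isQuasisimple_two (by rw [Nat.card_eq_fintype_card]; omega),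
          Or.inl ⟨F, inferInstance, inferInstance, inferInstance, 2, le_rfl, fun _ => by omega, ⟨MulEquiv.refl _⟩⟩⟩⟩⟩

end model

end Cfsg.Agent.TH.ExG
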