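import Cfsg.Agent.TH.ExG.Nec
import Cfsg.Agent.TH.ExT.Mu
import Cfsg.Agent.S0799
import Cfsg.Agent.H76.PermFour
import Cfsg.Agent.H19.RP.Dick
import Cfsg.Agent.LieExceptional.PGLeqPSL
import Cfsg.Agent.ClassicalGeometry.PSL2Solvable
import Cfsg.Agent.ClassicalGeometry.SLTwoFour

/-!
# S3541, `G₂(q)`: the local case and the case of several simple factors (helper78)
-/

set_option autoImplicit false
set_option linter.unusedSectionVars false

namespace Cfsg.Agent.TH.ExG

open Subgroup Cfsg.Lie Cfsg.Agent.SB.Low Cfsg.Agent.H1.RowExc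

/-- a subgroup of `SL₂(2 ^ n)` is solvable or simple -/
theorem simple_of_sl {X : Type} [Group X] (hns : ¬ Group.IsSolvable X) {F : Type} [Field F] [Fintype F] [CharP F 2]
    (σ : X →* Matrix.SpecialLinearGroup (Fin 2) F) (hσ : Function.Injective σ) : IsSimpleGroup X := by
  have := Fact.mk Nat.prime_two
  let e := MonoidHom.ofInjective (f := (slEquiv F).toMonoidHom.comp σ) ((slEquiv F).injective.comp hσ)
  have h1 : ∀ {Y : Type} [Group Y], Group.IsSolvable Y → (X ≃* Y) → IsSimpleGroup X := fun _ e =>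
    absurd (Group.isSolvable_of_isSolvable_injective (f := e.toMonoidHom) e.injective) hns
  have h2 : ∀ (K : Type) [Field K] [Fintype K] [CharP K 2], (X ≃* Matrix.ProjectiveSpecialLinearGroup (Fin 2) K) →
      IsSimpleGroup X := fun K _ _ _ e => by
    by_cases h : 4 ≤ Fintype.card K
    · have := simple_sl K h
      exact (e.trans (slEquiv K).symm).isSimpleGroup
    · exact h1 (solvable_sl K (not_le.1 h)) (e.trans (slEquiv K).symm)
  have h3 := H76.PermFour.solvable_perm_four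
  rcases S0799.result rfl 2 ((slEquiv F).toMonoidHom.comp σ).range with ⟨k, -, h | ⟨⟨d⟩⟩⟩ | ⟨P, K, hK, ⟨d⟩⟩ | ⟨⟨d⟩⟩ |
    ⟨⟨d⟩⟩ | ⟨⟨d⟩⟩ | ⟨K, _, _, m, hm, h⟩
  · exact h1 (Group.isSolvable_of_comm h.1.isMulCommutative.is_comm.comm) e
  · exact h1 (ClassicalGeometry.PSL2Solvable.isSolvable_dihedral k) (e.trans d)
  · exact h1 (ClassicalGeometry.PSL2Solvable.isSolvable_of_le_normalizer 2 P K hK) (e.trans d)
  · exact h1 inferInstance (e.trans d)
  · exact h1 h3 (e.trans d)
  · exact (e.trans d).isSimpleGroup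
  · have := H19.RP.charP_of_pow 2 hm
    obtain ⟨⟨d⟩⟩ | ⟨⟨d⟩⟩ := h
    · exact h2 K (e.trans d)
    · obtain ⟨d'⟩ := LieExceptional.PGLeqPSL.nonempty_pgl_mulEquiv_psl K fun x =>
        (FiniteField.isSquare_of_char_two (ringChar.eq K 2) x).imp fun r hr => by rw [hr, sq]
      exact h2 K ((e.trans d).trans d')

theorem Emb.exists_sl {G : Type} [Group G] {B : Subgroup G} {p : ℕ} (h : Emb p B) :
    ∃ (F : Type) (_ : Field F) (_ : Fintype F) (_ : CharP F p)
      (σ : ↥⁅B, B⁆ →* Matrix.SpecialLinearGroup (Fin 2) F), Function.Injective σ := by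
  obtain ⟨F, _, _, _, τ, hτ⟩ := h
  let e := ((commutator B).equivMapOfInjective _ B.subtype_injective).trans
    (MulEquiv.subgroupCongr B.map_subtype_commutator)
  let σ : commutator B →* Matrix.SpecialLinearGroup (Fin 2) F :=
    { toFun := fun x => ⟨τ x, congrArg Units.val
        (Abelianization.commutator_subset_ker (Matrix.GeneralLinearGroup.det.comp τ) x.2)⟩
      map_one' := Subtype.ext (by simp)
      map_mul' := fun x y => Subtype.ext (congrArg Units.val (map_mul τ x.1 y.1)) }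
  have hσ : Function.Injective σ := fun x y h => Subtype.ext (hτ (Units.ext (congrArg Subtype.val h)))
  exact ⟨F, inferInstance, inferInstance, inferInstance, σ.comp e.symm.toMonoidHom, hσ.comp e.symm.injective⟩

theorem solvable_of_comm {G : Type} [Group G] {B : Subgroup G} (h : Group.IsSolvable ↥⁅B, B⁆) : Group.IsSolvable B := by
  let e := ((commutator B).equivMapOfInjective _ B.subtype_injective).trans
    (MulEquiv.subgroupCongr B.map_subtype_commutator)
  have := Group.isSolvable_of_isSolvable_injective (f := e.toMonoidHom) e.injective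
  exact Group.isSolvable_of_ker_le_range (commutator B).subtype Abelianization.of (by
    rw [Abelianization.ker_of, range_subtype])

namespace Cx

variable {G : Type} [Group G] [Finite G] {T H : Subgroup G} {m p f : ℕ} {F : Type} [Field F] [Fintype F]
  (c : Cx T H m p f F)

include c

theorem not_emb {B : Subgroup G} (hB : B ≤ H ⊓ T) (hn : H ≤ Nz B) (hs : ¬ Group.IsSolvable B) : ¬ Emb p B := fun h => by
  obtain ⟨K, _, _, _, σ, hσ⟩ := h.exists_sl
  have h1 := mt solvable_of_comm hs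
  have h2 : ⁅B, B⁆ ≤ H ⊓ T := (B.map_subtype_commutator.ge.trans (map_subtype_le _)).trans hB
  have h3 : ∀ a ∈ H, ∀ x ∈ ⁅B, B⁆, a * x * a⁻¹ ∈ ⁅B, B⁆ := fun a ha x hx => by
    have h3 : cj a ⁅B, B⁆ = ⁅B, B⁆ := by
      rw [cj, map_commutator]
      exact congrArg₂ _ (cj_eq_of_mem_normalizer (hn ha)) (cj_eq_of_mem_normalizer (hn ha))
    exact h3 ▸ conj_mem_cj a hx
  by_cases hp : p = 2
  · subst hp
    have h4 := simple_of_sl h1 σ hσ
    have h5 : ¬ IsMulCommutative ↥⁅B, B⁆ := fun h => h1 (Group.isSolvable_of_comm h.is_comm.comm)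
    exact c.nown (Cl.Cases.hasOwn_of (h2.trans inf_le_left) h3 h4 h5 (ExT.Mu.lie_of_sl h5 σ hσ))
  · have := Fact.mk c.prime
    have h4 : ∀ x : ↥⁅B, B⁆, x * x = 1 → x ≠ 1 → σ x = -1 := fun x h4 h5 =>
      (ClassicalGeometry.SLTwoFour.eq_one_or_neg_one_of_mul_self (TwoL.two_ne_zero_of p hp) _
        (by rw [← map_mul, h4, map_one])).resolve_left fun e => h5 (hσ (e.trans (map_one σ).symm))
    obtain ⟨z, h5, h6⟩ := Ex1.exists_inv (Ex1.two_dvd h1)
    have h7 : (z : G) * z = 1 := congrArg Subtype.val h5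
    have h8 : (z : G) ≠ 1 := fun e => h6 (Subtype.ext e)
    have := Fact.mk Nat.prime_two
    refine c.cent_inv hp (h2 z.2).2 (orderOf_eq_prime (by rwa [sq]) h8) fun a ha =>
      mem_centralizer_singleton_iff.2 (mul_inv_eq_iff_eq_mul.1 (congrArg Subtype.val (hσ ((h4 ⟨_, h3 a ha z z.2⟩
        (Subtype.ext ?_) fun e => h8 ?_).trans (h4 z h5 h6).symm))))
    · calc a * z * a⁻¹ * (a * z * a⁻¹) = a * (z * z) * a⁻¹ := by group
        _ = 1 := by rw [h7, mul_one, mul_inv_cancel]
    · simpa using congrArg Subtype.val e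

theorem ab {E : Subgroup G} {r : ℕ} (h : DS.Loc T H E r) : False := by
  have hr := c.ne_of_loc h
  have hE : EA r E := ⟨h.prime, h.ne_bot, h.pow, h.comm⟩
  have ha : Nz E = H := h.norm
  by_cases h2 : r = 2
  · subst h2
    rcases c.gr.rk hr.symm E h.le_S hE with h1 | ⟨-, k, i, h1, h2, h3, h4⟩ | ⟨h1, h2⟩
    · obtain ⟨z, hz, z1, zo⟩ := hE.exists_ne
      obtain ⟨y, -, hy⟩ := (Nat.card_eq_two_iff' (1 : E)).1 h1
      exact c.cent_inv hr.symm (h.le_S hz) zo fun a h2 => mem_centralizer_singleton_iff.2 (mul_inv_eq_iff_eq_mul.1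
        (congrArg Subtype.val ((hy ⟨_, (mem_normalizer_iff.1 (ha.ge h2) z).1 hz⟩ fun e => z1 (by
          simpa using congrArg Subtype.val e)).trans (hy ⟨z, hz⟩ fun e => z1 (congrArg Subtype.val e)).symm)))
    · rw [ha] at h1
      exact c.not_192 (num_tor c.prime c.three c.nm h1 h2 (by omega)
        (h1.trans_le ((Nat.mul_le_mul h3 h4).trans_eq (by ring))))
    · rw [ha] at h2
      exact c.not_192 (num_eight c.prime c.three c.nm hr.symm
        (h1 ▸ card_dvd_of_le (le_inf (le_normalizer.trans ha.le) h.le_S)) h2)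
  by_cases hs : Group.IsSolvable ↥(Cz E ⊓ T)
  · obtain ⟨k, i, h1, h3, h4, h5⟩ := c.gr.tor r E h.le_S hE h2 hr hs
    rw [ha] at h1
    exact c.not_192 (num_tor c.prime c.three c.nm h1 h3 h5 (h1.trans_le ((Nat.mul_le_mul h4 h5).trans_eq (by ring))))
  have hB : Cz E ⊓ T ≤ H ⊓ T := inf_le_inf_right T (Cz_le_Nz.trans ha.le)
  have hn : H ≤ Nz (Cz E ⊓ T) := le_normalizer_of_conj fun a h1 x hx => ⟨fun y hy => by
    have h3 := hx.1 _ ((mem_normalizer_iff.1 (ha.ge (H.inv_mem h1)) y).1 hy)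
    calc y * (a * x * a⁻¹) = a * (a⁻¹ * y * a⁻¹⁻¹ * x) * a⁻¹ := by group
      _ = a * x * a⁻¹ * y := by rw [h3]; group, c.as.normal.conj_mem x hx.2 a⟩
  exact (c.gr.emb r E h.le_S hE h2 hr).elim
    (fun h1 => c.nown (hasOwn_up (hB.trans inf_le_left) hn (hasOwn_self h1.2))) (c.not_emb hB hn hs)

open ExT.Mu in
theorem mul {𝓢 : Set (Subgroup G)} (h : Mul T H 𝓢) : False := by
  have := c.char
  have := Fact.mk c.prime
  obtain ⟨e⟩ := c.iso
  by_cases hp : p = 2
  · subst hp
    obtain ⟨S, hS, hT, t, h1, h2, h3⟩ := exists_cent h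
    have := h.simple S hS
    obtain ⟨h4, h5, h6⟩ := zp_data (t := e t) (by rw [← map_mul, h1, map_one]) fun h => h2 (e.map_eq_one_iff.1 h)
    exact c.nown (own h hS (g2 (h.nonab S hS) (e.toMonoidHom.comp (inclusion hT))
      (e.injective.comp (inclusion_injective hT)) h4 h5 fun a => h6 _
        ((map_mul e _ t).symm.trans ((congrArg e (h3 a)).trans (map_mul e t _)))))
  · obtain ⟨E, _, _, g, h1, h2, h3⟩ := sixteen h
    have h4 := H783.EX.g2_card_le (TwoL.two_ne_zero_of (F := F) p hp) h2 (e.toMonoidHom.comp g) (e.injective.comp h1)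
    omega

end Cx

end Cfsg.Agent.TH.ExG
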