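import Cfsg.Agent.TH.ExG.Grp
import Cfsg.Agent.TH.Sv.Lin2
import Cfsg.Agent.TH.Sv.TriE
import Cfsg.Agent.TH.Cl.Cases.Sim
import Cfsg.Agent.TH.Ex1.TFb
import Cfsg.Agent.H523.FpfChev
import Cfsg.Agent.H384.AsOut
import Cfsg.Agent.S2121

/-!
# S3541, `G₂(q)`: the context, the numerical conditions, order `192` and centralisers of involutions (helper78)
-/

set_option autoImplicit false
set_option linter.unusedSectionVars false

namespace Cfsg.Agent.TH.ExG

open Subgroup Cfsg.Lie Cfsg.Agent.SB.Low Own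

/-- the standing hypotheses -/
structure Cx {G : Type} [Group G] (T H : Subgroup G) (m p f : ℕ) (F : Type) [Field F] [Fintype F] : Prop
    extends LieCtx T H m p where
  allK : AllK
  nown : ¬ HasOwn p H
  char : CharP F p
  card : Fintype.card F = p ^ f
  three : 3 ≤ p ^ f
  iso : Nonempty (T ≃* chevG2.group F)

theorem hasOwn_self {G : Type} [Group G] {L : Subgroup G} {p : ℕ} (h : QL p L) : HasOwn p L :=
  ⟨⊤, ⟨IsSubnormal.top, (h.congr topEquiv.symm).1⟩, (h.congr topEquiv.symm).2⟩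

theorem hasOwn_up {G : Type} [Group G] {A B : Subgroup G} {p : ℕ} (hle : A ≤ B) (hn : B ≤ Nz A) (h : HasOwn p A) :
    HasOwn p B :=
  Ex1.hasOwn_hom (inclusion hle) (inclusion_injective _) (by
    rw [inclusion_range]
    exact (normal_subgroupOf_iff_le_normalizer hle).2 hn) h

namespace Cx

variable {G : Type} [Group G] [Finite G] {T H : Subgroup G} {m p f : ℕ} {F : Type} [Field F] [Fintype F]
  (c : Cx T H m p f F)

include c

theorem gr : Gr p (p ^ f) T := by
  have := Fact.mk c.prime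
  have := c.char
  obtain ⟨e⟩ := c.iso
  exact c.card ▸ gr_of (c.card ▸ c.three) e

theorem conj_inj : Function.Injective (haveI := c.as.normal; (MulAut.conjNormal : G →* MulAut T)) := by
  have := c.as.normal
  rw [injective_iff_map_eq_one]
  intro g hg
  have h2 : g ∈ centralizer (T : Set G) := fun t ht => by
    have h3 := congrArg (fun σ : MulAut T => ((σ ⟨t, ht⟩ : T) : G)) hg
    simp only [MulAut.conjNormal_apply, MulAut.one_apply] at h3
    exact (mul_inv_eq_iff_eq_mul.1 h3).symm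
  rwa [c.as.cent] at h2

theorem index_dvd : T.index ∣ ob p f := by
  have := c.as.normal
  have := Fact.mk c.prime
  have := c.char
  obtain ⟨e⟩ := c.iso
  have h1 : Nat.card G ∣ Nat.card (MulAut T) := card_dvd_of_injective _ c.conj_inj
  have h2 : Finite (chevG2.group F) := Finite.of_equiv _ e.toEquiv
  have h3 : center (chevG2.group F) = ⊥ := by
    have h4 := c.as.simple
    exact Cl.Cases.center_eq_bot e.symm.isSimpleGroup fun h => c.as.nonab ⟨⟨fun a b => e.injective (by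
      rw [map_mul, map_mul]
      exact h.is_comm.comm _ _)⟩⟩
  rw [Nat.card_congr (MulAut.congr e).toEquiv, H384.TwoTrans.AS.card_mulAut h3, S2121.result p f c.card c.three,
    ← Nat.card_congr e.toEquiv, ← T.index_mul_card] at h1
  exact Nat.dvd_of_mul_dvd_mul_right Nat.card_pos h1

theorem gen1 (L : Subgroup G) (h : L ⊓ T = ⊥) : ∃ s : Fin 1 → G, closure (Set.range s) = L := by
  have := c.as.normal
  obtain ⟨e⟩ := c.iso
  have h1 := ((H523.Chev.cycOut_G2 (c.card ▸ c.three)).congr e.symm).isCyclic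
    (A := L.map (MulAut.conjNormal : G →* MulAut T)) (by
      rintro _ ⟨g, hg, rfl⟩ ⟨t, ht⟩
      have h2 : g = t := c.conj_inj (ht.trans (by ext; simp))
      have h3 : g ∈ L ⊓ T := ⟨hg, h2 ▸ t.2⟩
      rw [h, mem_bot] at h3
      rw [h3, map_one])
  have h2 : IsCyclic L := (L.equivMapOfInjective _ c.conj_inj).isCyclic.2 h1
  obtain ⟨g, hg⟩ := (isCyclic_iff_exists_zpowers_eq_top.1 h2)
  refine ⟨fun _ => g, ?_⟩
  rw [Set.range_const, ← zpowers_eq_closure]
  exact (MonoidHom.map_zpowers L.subtype g).symm.trans (by rw [hg, ← MonoidHom.range_eq_map, range_subtype])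

theorem div_eq : og (p ^ f) / Nat.card ↥(H ⊓ T) = H.index := c.gr.card ▸ Sv.card_div_eq c.as c.half

theorem mul_rel (Y : Subgroup G) : Nat.card ↥(Y ⊓ T) * Y.relIndex T = og (p ^ f) := by
  rw [← c.gr.card, ← inf_relIndex_right, card_mul_relIndex inf_le_right]

theorem cls {x : G} (hx : x ∈ H ⊓ T) (h1 : x ≠ 1) :
    og (p ^ f) / cm (p ^ f) p (Nat.card ↥(H ⊓ T)) ≤ (centralizer {x}).relIndex T := by
  obtain ⟨s, hs, k, hk⟩ := Nat.exists_prime_and_dvd (mt orderOf_eq_one_iff.1 h1)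
  have h0 : 0 < k := Nat.pos_of_mul_pos_left (hk ▸ orderOf_pos x)
  have h2 : orderOf (x ^ k) = s := by
    rw [orderOf_pow' _ h0.ne', hk, Nat.gcd_mul_left_left, Nat.mul_div_cancel _ h0]
  have h3 : Nat.card ↥(centralizer {x} ⊓ T) ≤ cm (p ^ f) p (Nat.card ↥(H ⊓ T)) :=
    (card_le_of_le (inf_le_inf_right T fun g hg => mem_centralizer_singleton_iff.2
      ((show Commute g x from mem_centralizer_singleton_iff.1 hg).pow_right k).eq)).trans
      ((c.gr.cb _ (T.pow_mem hx.2 k) (h2 ▸ hs)).trans (cb_le_cm (orderOf_dvd_natCard _ ((H ⊓ T).pow_mem hx k))))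
  exact Nat.div_le_of_le_mul (c.mul_rel _ ▸ Nat.mul_le_mul_right _ h3)

theorem gcd_dvd : Nat.gcd (Nat.card ↥(H ⊓ T)) (Nat.card H / m) ∣
    Nat.gcd (Nat.card ↥(H ⊓ T)) (og (p ^ f) / Nat.card ↥(H ⊓ T) - 1) :=
  Nat.gcd_dvd_gcd_of_dvd_right _ (c.div_eq ▸ c.half.d_dvd)

theorem nm : Nm (p ^ f) p (ob p f) (Nat.card ↥(H ⊓ T)) := by
  have h1 := Sv.boxNec G T H m 0 _ (fun _ => 0) c.as c.half (fun _ _ _ => Nat.zero_le _) (fun x => c.cls)
    fun _ _ _ _ _ _ => Nat.zero_le _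
  have h2 := c.gcd_dvd
  have h3 := Nat.le_of_dvd (Nat.gcd_pos_of_pos_left _ Nat.card_pos) h2
  have h0 : 0 < ob p f := by
    have h4 : f ≠ 0 := fun h => by simpa [h] using c.three
    unfold ob
    split_ifs <;> omega
  refine ⟨c.gr.card ▸ h1.a_dvd, c.div_eq ▸ c.dvd_index, fun h => h1.gcd (Nat.dvd_one.1 (h ▸ h2)), fun s hs h4 h5 => ?_,
    le_trans (Nat.mul_le_mul_right _ (Nat.sub_le_sub_right (Nat.div_le_div_left h3
      (Nat.gcd_pos_of_pos_left _ Nat.card_pos)) 1)) h1.sigA, fun h4 => ?_, fun h4 => ?_⟩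
  · have := Fact.mk hs
    obtain ⟨⟨x, hx⟩, h6⟩ := exists_prime_orderOf_dvd_card' s h4
    rw [← orderOf_coe] at h6
    have h7 := Sv.boxEl G T H _ _ m s 1 x c.as c.half hs (fun h => h5 ((Nat.dvd_gcd h4 h).trans h2)) inf_le_left
      (fun a ha y => (mem_normalizer_iff.1 (c.as.le_normalizer_inf ha) y).1) le_rfl
      (fun a ha y hy => mul_mem (mul_mem ha hy) (inv_mem ha)) hx (by rwa [pow_one])
    have h8 : (clsIn T H x).ncard ≤ Nat.card ↥(H ⊓ T) - 1 := by
      rw [← ncard_sdiff_one]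
      refine Set.ncard_le_ncard ?_
      rintro _ ⟨h8, t, ht, rfl⟩
      refine ⟨⟨h8, T.mul_mem (T.mul_mem (T.inv_mem ht) hx.2) ht⟩, fun h9 => hs.one_lt.ne' ?_⟩
      rw [← h6, orderOf_eq_one_iff]
      simpa [mul_assoc, inv_mul_eq_one] using (show t⁻¹ * x * t = 1 from h9)
    exact (c.mul_rel (centralizer {x})).ge.trans (Nat.mul_le_mul (h6 ▸ c.gr.cb x hx.2 (h6 ▸ hs))
      (h7.trans (Nat.mul_le_mul ((min_le_left _ _).trans h3) h8)))
  · exact (h1.prime_le 3 Nat.prime_three (h4.mul_right _)).trans (Nat.le_of_dvd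
      (Nat.gcd_pos_of_pos_left _ (Nat.mul_pos Nat.card_pos h0))
      (Nat.dvd_gcd (h1.d_dvd.trans (Nat.mul_dvd_mul_left _ c.index_dvd)) (c.gr.card ▸ h1.d_dvd')))
  · rw [c.div_eq]
    refine (Sv.boxLin2 G T H m _ 1 c.as c.half (fun x => c.cls) h4 c.gen1).2.2.trans ?_
    rw [c.as.card_eq_mul c.half]
    exact Nat.mul_le_mul_left _ (Nat.pow_le_pow_left (Nat.mul_le_mul_left _ (Nat.le_of_dvd h0 c.index_dvd)) _)

theorem eq_three (h : p ^ f = 3) : p = 3 ∧ f = 1 := by
  rw [← pow_one 3] at h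
  have h1 : f ≠ 0 := fun e => by simp [e] at h
  have h2 := (Nat.prime_dvd_prime_iff_eq c.prime Nat.prime_three).1 (c.prime.dvd_of_dvd_pow (h ▸ dvd_pow_self p h1))
  subst h2
  exact ⟨rfl, Nat.pow_right_injective (by norm_num) h⟩

theorem not_192 (h : p ^ f = 3 ∧ Nat.card ↥(H ⊓ T) = 192) : False := by
  obtain ⟨rfl, rfl⟩ := c.eq_three h.1
  have ha := h.2
  have hn := c.as.normal
  have := Fact.mk Nat.prime_three
  have hf : (Nat.card ↥(H ⊓ T)).factorization 3 = 1 := by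
    rw [ha, show 192 = 3 ^ 1 * 64 from rfl, Nat.factorization_mul (by norm_num) (by norm_num), Finsupp.add_apply,
      Nat.factorization_pow_self Nat.prime_three, Nat.factorization_eq_zero_of_not_dvd (by norm_num)]
  have h1 := Sv.sylNum ↥(H ⊓ T) 3 Nat.prime_three
  rw [hf] at h1
  by_cases h2 : Nat.card (Sylow 3 ↥(H ⊓ T)) ≤ 16
  · obtain ⟨P, hP⟩ := Sv.exists_sub (L := H ⊓ T) Nat.prime_three (Nat.ordProj_dvd _ 3)
    have h3 := (Sv.syl_bound c.as c.half inf_le_left c.as.le_normalizer_inf Nat.prime_three c.not_dvd_d hP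
      fun t _ h => le_inf h ((cj_mono t (hP.1.trans inf_le_right)).trans (cj_normal t T).le)).trans
      (Nat.mul_le_mul h2 ((min_le_left _ _).trans h2))
    have h4 := Nat.mul_le_mul (c.gr.np P (hP.1.trans inf_le_right)
      (Sv.sub.ne_bot Nat.prime_three (by rw [ha]; norm_num) hP) (Sv.sub.isP hP)) h3
    rw [c.mul_rel] at h4
    exact absurd h4 (by decide)
  have h3 : Nat.card (Sylow 3 ↥(H ⊓ T)) = 64 := by
    rw [ha] at h1
    obtain ⟨h3, h4⟩ := h1
    obtain ⟨k, hk, h5⟩ := (Nat.dvd_prime_pow Nat.prime_two).1 (show _ ∣ 2 ^ 6 from h3)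
    simp only [h5] at h2 h4 ⊢
    interval_cases k <;> simp_all
  obtain ⟨P⟩ : Nonempty (Sylow 3 ↥(H ⊓ T)) := inferInstance
  have h4 : Nat.card (P : Subgroup ↥(H ⊓ T)) = 3 := by rw [P.card_eq_multiplicity, hf, pow_one]
  have h5 : normalizer ((P : Subgroup ↥(H ⊓ T)) : Set ↥(H ⊓ T)) ≤ centralizer ((P : Subgroup ↥(H ⊓ T)) : Set ↥(H ⊓ T)) := by
    have h5 := (normalizer ((P : Subgroup ↥(H ⊓ T)) : Set ↥(H ⊓ T))).card_mul_index
    rw [show (normalizer ((P : Subgroup ↥(H ⊓ T)) : Set ↥(H ⊓ T))).index = 64 from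
      P.card_eq_index_normalizer.symm.trans h3, ha] at h5
    have := isCyclic_of_prime_card h4
    rw [← eq_of_le_of_card_ge (le_normalizer (H := (P : Subgroup ↥(H ⊓ T)))) (by omega)]
    exact le_centralizer _
  have h6 := (MonoidHom.ker_transferSylow_isComplement' P h5).card_mul_card
  rw [h4, ha] at h6
  have h7 : ({x | orderOf x = 2} ∩ ((H ⊓ T : Subgroup G) : Set G)).ncard ≤ 63 := by
    have h7 := ncard_sdiff_one ((MonoidHom.transferSylow P h5).ker.map (H ⊓ T).subtype)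
    rw [card_map_of_injective (subtype_injective _)] at h7
    refine (Set.ncard_le_ncard fun x hx => ?_).trans (h7.le.trans (by omega))
    have h8 : orderOf (⟨x, hx.2⟩ : ↥(H ⊓ T)) = 2 := (orderOf_coe _).symm.trans hx.1
    refine ⟨⟨⟨x, hx.2⟩, orderOf_eq_one_iff.1 (Nat.eq_one_of_dvd_coprimes (by norm_num : Nat.Coprime 2 3)
      ((orderOf_map_dvd _ _).trans h8.dvd) ((_root_.orderOf_dvd_natCard _).trans h4.dvd)), rfl⟩, fun e => ?_⟩
    have h9 : orderOf x = 2 := hx.1
    rw [show x = 1 from e, orderOf_one] at h9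
    omega
  have h8 := c.as.sigma_set c.half ({x | orderOf x = 2} ∩ ((H ⊓ T : Subgroup G) : Set G))
    ({x | orderOf x = 2} ∩ ((H ⊓ T : Subgroup G) : Set G)) (fun x hx => hx.2.1) (j := 2 - 1) (c := c2 (3 ^ 1))
    (fun g _ => by
      rw [Set.inter_assoc, ← coe_inf]
      refine sub_one_le_ncard_orderOf Nat.prime_two ?_
      have h8 := (c.half.card_dvd_gcd_mul inf_le_left c.as.le_normalizer_inf g).trans (Nat.mul_dvd_mul_right c.gcd_dvd _)
      rw [ha, show Nat.gcd 192 (og (3 ^ 1) / 192 - 1) = 32 by decide] at h8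
      omega)
    (fun x hx t ht h => ⟨by simpa using ((MulAut.conj t⁻¹).orderOf_eq x).trans hx.1, h,
      T.mul_mem (T.mul_mem (T.inv_mem ht) hx.2.2) ht⟩)
    fun x hx => (c.gr.inv (by norm_num) x hx.2.2 hx.1).1.le
  have h9 := h8.trans (Nat.mul_le_mul_right _ (Nat.mul_le_mul h7 h7))
  rw [c.gr.card] at h9
  exact absurd h9 (by decide)

/-- `H` does not centralise an involution of the socle -/
theorem cent_inv (h2 : p ≠ 2) {z : G} (hz : z ∈ T) (ho : orderOf z = 2) (h : H ≤ centralizer {z}) : False := by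
  have h1 : centralizer {z} = H := by
    by_contra h1
    have h3 : z ∈ centralizer (T : Set G) := fun t _ => mem_centralizer_singleton_iff.1
      ((c.half.max.2 _ (lt_of_le_of_ne h (Ne.symm h1))).ge (mem_top t))
    rw [c.as.cent, mem_bot] at h3
    rw [h3, orderOf_one] at ho
    omega
  have h3 := c.gr.inv h2 z hz ho
  rw [h1] at h3
  by_cases h4 : p ^ f = 3
  · have h5 := c.nm
    obtain ⟨rfl, rfl⟩ := c.eq_three h4
    rw [h3.1] at h5
    exact num_576 rfl h5
  · obtain ⟨L, M, h5, h6, h7, h8, h9⟩ := h3.2 h4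
    exact c.nown (hasOwn_up inf_le_left c.as.le_normalizer_inf (hasOwn_up h6
      ((normal_subgroupOf_iff_le_normalizer h6).1 (normal_of_index_eq_two h8)) (hasOwn_up h5 h7 (hasOwn_self h9))))

end Cx

end Cfsg.Agent.TH.ExG
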