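import Cfsg.Agent.H161.OctMixed2
import Cfsg.Agent.H161.G2Main
import Cfsg.Agent.H876.G2U.Main
import Cfsg.Agent.H244.S3509.Facts
import Cfsg.Agent.H566.G2.Fix
import Cfsg.Agent.H898.EPX.LSk
import Cfsg.Agent.CpQuot.Congr
import Cfsg.Agent.GenPsu.Psu
import Cfsg.Agent.SignalizersComponents.SLQuasisimple

/-!
# S3541, `G₂(q)`: centralisers of semisimple elements of odd order in the octonion model (helper78)
-/

set_option autoImplicit false
set_option linter.unusedSectionVars false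

namespace Cfsg.Agent.TH.ExG

open Cfsg.Lie Cfsg.Agent.H161.Oct

section Lin

variable {K : Type} [Field K]

/-- the basis vectors -/
abbrev sg (i : Fin 8) : V K := Pi.single i 1

theorem eq_one_of_sg {u : V K ≃ₗ[K] V K} (h : ∀ i, u (sg i) = sg i) : u = 1 := by
  apply LinearEquiv.toLinearMap_injective
  apply (Pi.basisFun K (Fin 8)).ext
  intro i
  rw [Pi.basisFun_apply]
  exact h i

theorem fix_mul {u : V K ≃ₗ[K] V K} (hu : u ∈ AutO K) {x y z : V K} (hx : u x = x) (hy : u y = y)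
    (h : zornMul x y = z ∨ zornMul x y = -z) : u z = z := by
  have h1 := mem_AutO.1 hu x y
  rw [hx, hy] at h1
  rcases h with h | h <;> rw [h] at h1
  · exact h1
  · rw [map_neg] at h1
    exact neg_injective h1

theorem gen12 {u : V K ≃ₗ[K] V K} (hu : u ∈ AutO K) (h1 : u (sg 1) = sg 1) (h2 : u (sg 2) = sg 2)
    (h4 : u (sg 4) = sg 4) (h5 : u (sg 5) = sg 5) : u = 1 := by
  have h0 : u (sg 0) = sg 0 := fix_mul hu h1 h4 (Or.inl (by
    apply ext8 <;> simp [mul0, mul1, mul2, mul3, mul4, mul5, mul6, mul7]))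
  have h6 : u (sg 6) = sg 6 := fix_mul hu h1 h2 (Or.inl (by
    apply ext8 <;> simp [mul0, mul1, mul2, mul3, mul4, mul5, mul6, mul7]))
  have h3 : u (sg 3) = sg 3 := fix_mul hu h4 h5 (Or.inr (by
    apply ext8 <;> simp [mul0, mul1, mul2, mul3, mul4, mul5, mul6, mul7]))
  have h7 : u (sg 7) = sg 7 := fix_mul hu h4 h1 (Or.inl (by
    apply ext8 <;> simp [mul0, mul1, mul2, mul3, mul4, mul5, mul6, mul7]))
  refine eq_one_of_sg fun i => ?_
  fin_cases i
  exacts [h0, h1, h2, h3, h4, h5, h6, h7]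

theorem gen23 {u : V K ≃ₗ[K] V K} (hu : u ∈ AutO K) (h2 : u (sg 2) = sg 2) (h3 : u (sg 3) = sg 3)
    (h5 : u (sg 5) = sg 5) (h6 : u (sg 6) = sg 6) : u = 1 :=
  gen12 hu (fix_mul hu h5 h6 (Or.inr (by apply ext8 <;> simp [mul0, mul1, mul2, mul3, mul4, mul5, mul6, mul7]))) h2
    (fix_mul hu h2 h3 (Or.inl (by apply ext8 <;> simp [mul0, mul1, mul2, mul3, mul4, mul5, mul6, mul7]))) h5

theorem gen13 {u : V K ≃ₗ[K] V K} (hu : u ∈ AutO K) (h1 : u (sg 1) = sg 1) (h3 : u (sg 3) = sg 3)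
    (h4 : u (sg 4) = sg 4) (h6 : u (sg 6) = sg 6) : u = 1 :=
  gen12 hu h1 (fix_mul hu h6 h4 (Or.inr (by apply ext8 <;> simp [mul0, mul1, mul2, mul3, mul4, mul5, mul6, mul7]))) h4
    (fix_mul hu h3 h1 (Or.inl (by apply ext8 <;> simp [mul0, mul1, mul2, mul3, mul4, mul5, mul6, mul7])))

theorem exists_emb {L : Type} [Group L] (ψ : L →* (V K ≃ₗ[K] V K)) {i j : Fin 8} (hij : i ≠ j)
    (h1 : ∀ u t, t ≠ i → t ≠ j → ψ u (sg i) t = 0 ∧ ψ u (sg j) t = 0)
    (h2 : ∀ u, ψ u (sg i) = sg i → ψ u (sg j) = sg j → u = 1) :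
    ∃ σ : L →* Module.End K (Fin 2 → K), Function.Injective σ := by
  let ι : (Fin 2 → K) →ₗ[K] V K :=
    (LinearMap.proj 0 : (Fin 2 → K) →ₗ[K] K).smulRight (sg i) + (LinearMap.proj 1 : (Fin 2 → K) →ₗ[K] K).smulRight (sg j)
  let π : V K →ₗ[K] (Fin 2 → K) := LinearMap.funLeft K K ![i, j]
  have hι : ∀ v, ι v = v 0 • sg i + v 1 • sg j := fun _ => rfl
  have hπ : ∀ x, π x = ![x i, x j] := fun x => by
    funext k
    fin_cases k <;> rfl
  have a1 : ∀ v, π (ι v) = v := fun v => by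
    rw [hπ, hι]
    funext k
    fin_cases k <;> simp [hij, hij.symm]
  have a2 : ∀ x : V K, (∀ t, t ≠ i → t ≠ j → x t = 0) → ι (π x) = x := fun x hx => by
    rw [hπ, hι]
    funext t
    by_cases hi : t = i
    · subst hi
      simp [hij]
    by_cases hj : t = j
    · subst hj
      simp [hi]
    simp [hi, hj, hx t hi hj]
  have a3 : ∀ u v, ι (π (ψ u (ι v))) = ψ u (ι v) := fun u v => a2 _ fun t hi hj => by
    rw [hι, map_add, map_smul, map_smul, Pi.add_apply, Pi.smul_apply, Pi.smul_apply, (h1 u t hi hj).1, (h1 u t hi hj).2,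
      smul_zero, smul_zero, add_zero]
  let σ : L →* Module.End K (Fin 2 → K) :=
    { toFun := fun u => π ∘ₗ (ψ u : V K →ₗ[K] V K) ∘ₗ ι
      map_one' := LinearMap.ext fun v => by
        rw [map_one]
        exact a1 v
      map_mul' := fun u w => LinearMap.ext fun v => by
        rw [map_mul]
        exact congrArg (fun y => π (ψ u y)) (a3 w v).symm }
  refine ⟨σ, (injective_iff_map_eq_one σ).2 fun u hu => ?_⟩
  have a4 : ∀ v, ψ u (ι v) = ι v := fun v => by
    rw [← a3]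
    exact congrArg ι (LinearMap.congr_fun hu v)
  have a5 := a4 ![1, 0]
  have a6 := a4 ![0, 1]
  rw [hι] at a5 a6
  exact h2 u (by simpa using a5) (by simpa using a6)

variable {a b c : K} {s : V K ≃ₗ[K] V K} (hs : ∀ x j, s x j = dg a b c j * x j)

include hs

theorem fix_dual {u : V K ≃ₗ[K] V K} (hsu : ∀ x, u (s x) = s (u x)) (hu : u ∈ AutO K) {l : K}
    (h : ∀ t, dg a b c t = l → u (sg t) = sg t) {j : Fin 8} (hj : dg a b c j = l⁻¹) : u (sg j) = sg j := by
  funext i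
  by_cases hi : dg a b c i = l⁻¹
  · obtain ⟨i', h1, h2⟩ := bl_single (u (sg j) + (-1 : K) • sg j) i
    have h3 : u (sg i') = sg i' := h i' (by rw [h1, hi, inv_inv])
    have h4 := map_bl hu (sg j) (sg i')
    rw [h3] at h4
    rw [bl_add', bl_smul', h4, Pi.add_apply, Pi.smul_apply, smul_eq_mul] at h2
    rcases h2 with h2 | h2
    · linear_combination -h2
    · linear_combination h2
  · have h1 := single_mem_Wl a b c j
    rw [hj] at h1
    exact (map_Wl hs hsu h1 i hi).trans (h1 i hi).symm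

theorem emb_of_pair {L : Type} [Group L] (ψ : L →* (V K ≃ₗ[K] V K)) (hψ : Function.Injective ψ)
    (hm : ∀ u, ψ u ∈ AutO K) (hc : ∀ u x, ψ u (s x) = s (ψ u x)) (i j i' j' : Fin 8) (hij : i ≠ j)
    (hcl : ∀ t, dg a b c t = dg a b c i ∨ dg a b c t = dg a b c j → t = i ∨ t = j)
    (hi' : dg a b c i' = (dg a b c i)⁻¹) (hj' : dg a b c j' = (dg a b c j)⁻¹)
    (hgen : ∀ u ∈ AutO K, u (sg i) = sg i → u (sg j) = sg j → u (sg i') = sg i' → u (sg j') = sg j' → u = 1) :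
    ∃ σ : L →* Module.End K (Fin 2 → K), Function.Injective σ := by
  refine exists_emb ψ hij (fun u t h1 h2 => ⟨?_, ?_⟩) fun u h1 h2 => hψ ?_
  · exact map_Wl hs (hc u) (single_mem_Wl a b c i) t fun h => (hcl t (Or.inl h)).elim h1 h2
  · exact map_Wl hs (hc u) (single_mem_Wl a b c j) t fun h => (hcl t (Or.inr h)).elim h1 h2
  · have h3 : ∀ t, t = i ∨ t = j → ψ u (sg t) = sg t := by
      rintro t (rfl | rfl)
      exacts [h1, h2]
    rw [map_one]
    exact hgen _ (hm u) h1 h2 (fix_dual hs (hc u) (hm u) (fun t h => h3 t (hcl t (Or.inl h))) hi')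
      (fix_dual hs (hc u) (hm u) (fun t h => h3 t (hcl t (Or.inr h))) hj')

omit hs in
theorem ne_gen (habc : a * b * c = 1) (ha : a⁻¹ ≠ a) (hb : b⁻¹ ≠ b) (hc : c⁻¹ ≠ c) :
    1 ≠ a ∧ 1 ≠ b ∧ a⁻¹ ≠ b ∧ b⁻¹ ≠ a ∧ c⁻¹ ≠ a ∧ c⁻¹ ≠ b := by
  have a0 : a ≠ 0 := by rintro rfl; simp at habc
  have b0 : b ≠ 0 := by rintro rfl; simp at habc
  have c0 : c ≠ 0 := by rintro rfl; simp at habc
  refine ⟨?_, ?_, ?_, ?_, ?_, ?_⟩
  · rintro rfl
    exact ha inv_one
  · rintro rfl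
    exact hb inv_one
  · rintro rfl
    rw [mul_inv_cancel₀ a0, one_mul] at habc
    exact hc (by rw [habc, inv_one])
  · rintro rfl
    rw [inv_mul_cancel₀ b0, one_mul] at habc
    exact hc (by rw [habc, inv_one])
  · rintro rfl
    rw [mul_right_comm, inv_mul_cancel₀ c0, one_mul] at habc
    exact hb (by rw [habc, inv_one])
  · rintro rfl
    rw [mul_assoc, inv_mul_cancel₀ c0, mul_one] at habc
    exact ha (by rw [habc, inv_one])

theorem emb_of_diag (habc : a * b * c = 1) (ha : a⁻¹ = a → a = 1) (hb : b⁻¹ = b → b = 1) (hc : c⁻¹ = c → c = 1)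
    (hne : ¬ (a = b ∧ b = c)) {L : Type} [Group L] (ψ : L →* (V K ≃ₗ[K] V K)) (hψ : Function.Injective ψ)
    (hm : ∀ u, ψ u ∈ AutO K) (hcm : ∀ u x, ψ u (s x) = s (ψ u x)) :
    ∃ σ : L →* Module.End K (Fin 2 → K), Function.Injective σ := by
  have key := emb_of_pair hs ψ hψ hm hcm
  by_cases c1 : c = 1
  · subst c1
    obtain rfl : b = a⁻¹ := eq_inv_of_mul_eq_one_right (by rwa [mul_one] at habc)
    have n1 : 1 ≠ a := by
      rintro rfl
      exact hne ⟨inv_one.symm, inv_one⟩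
    have n2 : a⁻¹ ≠ a := fun h => n1 (ha h).symm
    refine key 1 5 4 2 (by decide) ?_ rfl (inv_inv _).symm fun u hu h1 h5 h4 h2 => gen12 hu h1 h2 h4 h5
    intro t
    fin_cases t <;> simp [dg, n1, n2]
  by_cases a1 : a = 1
  · subst a1
    obtain rfl : c = b⁻¹ := eq_inv_of_mul_eq_one_right (by rwa [one_mul] at habc)
    have n1 : 1 ≠ b := by
      rintro rfl
      exact c1 inv_one
    have n2 : b⁻¹ ≠ b := fun h => n1 (hb h).symm
    refine key 2 6 5 3 (by decide) ?_ rfl (inv_inv _).symm fun u hu h2 h6 h5 h3 => gen23 hu h2 h3 h5 h6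
    intro t
    fin_cases t <;> simp [dg, n1, n2]
  by_cases b1 : b = 1
  · subst b1
    obtain rfl : a = c⁻¹ := eq_inv_of_mul_eq_one_left (by rwa [mul_one] at habc)
    have n1 : 1 ≠ c := Ne.symm c1
    have n2 : c⁻¹ ≠ c := fun h => c1 (hc h)
    refine key 3 4 6 1 (by decide) ?_ rfl (inv_inv _).symm fun u hu h3 h4 h6 h1 => gen13 hu h1 h3 h4 h6
    intro t
    fin_cases t <;> simp [dg, n1, n2]
  have na : a⁻¹ ≠ a := fun h => a1 (ha h)
  have nb : b⁻¹ ≠ b := fun h => b1 (hb h)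
  have nc : c⁻¹ ≠ c := fun h => c1 (hc h)
  by_cases e1 : c = a
  · obtain ⟨n1, n2, n3, n4, n5, n6⟩ := ne_gen (a := a) (b := c) (c := b) (by rw [← habc]; ring) na nc nb
    have n7 : b ≠ a := fun h => hne ⟨h.symm, h.trans e1.symm⟩
    have n8 : b ≠ c := fun h => n7 (h.trans e1)
    refine key 1 3 4 6 (by decide) ?_ rfl rfl fun u hu h1 h3 h4 h6 => gen13 hu h1 h3 h4 h6
    intro t
    fin_cases t <;> simp [dg, n1, n2, n3, n4, n5, n6, n7, n8, na, nc]
  by_cases e2 : c = b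
  · obtain ⟨n1, n2, n3, n4, n5, n6⟩ := ne_gen (a := b) (b := c) (c := a) (by rw [← habc]; ring) nb nc na
    have n7 : a ≠ c := Ne.symm e1
    have n8 : a ≠ b := fun h => n7 (h.trans e2.symm)
    refine key 2 3 5 6 (by decide) ?_ rfl rfl fun u hu h2 h3 h5 h6 => gen23 hu h2 h3 h5 h6
    intro t
    fin_cases t <;> simp [dg, n1, n2, n3, n4, n5, n6, n7, n8, nb, nc]
  · obtain ⟨n1, n2, n3, n4, n5, n6⟩ := ne_gen habc na nb nc
    refine key 1 2 4 5 (by decide) ?_ rfl rfl fun u hu h1 h2 h4 h5 => gen12 hu h1 h2 h4 h5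
    intro t
    fin_cases t <;> simp [dg, n1, n2, n3, n4, n5, n6, e1, e2, na, nb]

end Lin

section Om

open Cfsg.Agent.H566.G2

variable {K : Type} [Field K] {a : K} {s : V K ≃ₗ[K] V K} (hs : ∀ x j, s x j = dg a a a j * x j)

include hs

theorem comm_iff (h1 : a ≠ 1) (h2 : a⁻¹ ≠ a) {u : V K ≃ₗ[K] V K} (hu : u ∈ AutO K) :
    (∀ x, u (s x) = s (u x)) ↔ u e1 = e1 := by
  have h3 : a⁻¹ ≠ 1 := fun h => h1 (inv_eq_one.1 h)
  constructor
  · intro h
    have a0 : (e1 : V K) = sg 0 := by apply ext8 <;> simp [e1]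
    have a1 : u e1 ∈ Wl a a a 1 := a0 ▸ map_Wl hs h (single_mem_Wl a a a 0)
    have a2 : u (sg 1) ∈ Wl a a a a := map_Wl hs h (single_mem_Wl a a a 1)
    have a3 : zornMul (u e1) (u (sg 1)) = u (sg 1) := by
      rw [← mem_AutO.1 hu, e1_mul]
      congr 1
      apply ext8 <;> simp
    have a4 : u (sg 1) ≠ 0 := fun h0 => by
      have := congrFun (u.map_eq_zero_iff.1 h0) 1
      simp at this
    have a5 := map_tr hu e1
    generalize u e1 = y at *
    generalize u (sg 1) = w at *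
    have y1 : y 1 = 0 := a1 1 h1
    have y2 : y 2 = 0 := a1 2 h1
    have y3 : y 3 = 0 := a1 3 h1
    have y4 : y 4 = 0 := a1 4 h3
    have y5 : y 5 = 0 := a1 5 h3
    have y6 : y 6 = 0 := a1 6 h3
    have y0 : y 0 = 1 := by
      by_contra y0
      have b1 := congrFun a3 1
      have b2 := congrFun a3 2
      have b3 := congrFun a3 3
      rw [mul1, y1, y5, y6] at b1
      rw [mul2, y2, y4, y6] at b2
      rw [mul3, y3, y4, y5] at b3
      have b0 : y 0 - 1 ≠ 0 := sub_ne_zero.2 y0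
      exact a4 (ext8 (a2 0 h1.symm) ((mul_eq_zero.1 (by linear_combination b1 : (y 0 - 1) * w 1 = 0)).resolve_left b0)
        ((mul_eq_zero.1 (by linear_combination b2 : (y 0 - 1) * w 2 = 0)).resolve_left b0)
        ((mul_eq_zero.1 (by linear_combination b3 : (y 0 - 1) * w 3 = 0)).resolve_left b0)
        (a2 4 h2) (a2 5 h2) (a2 6 h2) (a2 7 h1.symm))
    rw [tr, tr, y0, e1_0, e1_7] at a5
    exact ext8 y0 y1 y2 y3 y4 y5 y6 (add_left_cancel a5)
  · intro h x
    obtain ⟨P, hP, rfl⟩ := exists_sl hu h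
    apply ext8 <;> simp only [sl_apply, hs, slF0, slF1, slF2, slF3, slF4, slF5, slF6, slF7] <;> simp [dg] <;> ring

theorem mk_eq (h1 : a ≠ 1) {e : V K} (he : s e = e) (hd : dsc e ≠ 0) : MK e = MK e1 := by
  have h3 : a⁻¹ ≠ 1 := fun h => h1 (inv_eq_one.1 h)
  have a1 : ∀ j, dg a a a j ≠ 1 → e j = 0 := fun j hj => by
    have h4 := hs e j
    rw [he] at h4
    exact (mul_eq_zero.1 (by linear_combination -h4 : (dg a a a j - 1) * e j = 0)).resolve_left (sub_ne_zero.2 hj)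
  have y1 : e 1 = 0 := a1 1 h1
  have y2 : e 2 = 0 := a1 2 h1
  have y3 : e 3 = 0 := a1 3 h1
  have y4 : e 4 = 0 := a1 4 h3
  have y5 : e 5 = 0 := a1 5 h3
  have y6 : e 6 = 0 := a1 6 h3
  have a2 : e = e 7 • o + (e 0 - e 7) • e1 := by
    apply ext8 <;> simp [o, e1, y1, y2, y3, y4, y5, y6]
  rw [a2]
  refine H244.S3509G2.mk_affine _ fun h0 => hd ?_
  rw [dsc, tr, nm, y1, y2, y3, sub_eq_zero.1 h0]
  ring

end Om

/-- quasisimple of Lie type in characteristic `p` -/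
def QL (p : ℕ) (X : Type*) [Group X] : Prop := IsQuasisimple X ∧ IsLieTypeChar p (X ⧸ Subgroup.center X)

theorem QL.congr {p : ℕ} {X Y : Type*} [Group X] [Group Y] (e : X ≃* Y) (h : QL p X) : QL p Y :=
  ⟨(CpQuot.Congr.isQuasisimple_iff e).1 h.1, (CpQuot.Congr.isLieTypeChar_iff (CpQuot.Congr.cq e) p).1 h.2⟩

section Fin

open Cfsg.Agent.H566.G2 Cfsg.Agent.H876.G2U Subgroup

variable {F : Type} [Field F] [Fintype F] {p : ℕ} [Fact p.Prime] [CharP F p] (hq : 3 ≤ Fintype.card F)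

include hq

theorem ql_mk {e : V F} (he : dsc e ≠ 0) : QL p (MK e) := by
  have hq' : 3 ≤ Nat.card F := by rwa [Nat.card_eq_fintype_card]
  by_cases hl : ∀ l : F, l ^ 2 - tr e * l + nm e ≠ 0
  · obtain ⟨Q⟩ := exists_quad hl
    obtain ⟨g, gm, ge, gc⟩ := exists_frame Q fun B hB hd => H393.G2.exists_PPt Q.card (by omega) Q.s Q.s_eq B hB hd
    obtain ⟨Φ⟩ := exists_iso Q gm ge gc (H393.G2.mem_SU_iff Q.s Q.s_eq Q.ss)
    have := Fintype.ofFinite Q.L
    have h1 : Fintype.card Q.L = Nat.card F ^ 2 := by rw [← Nat.card_eq_fintype_card, Q.card]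
    have h2 : ¬ (3 = 3 ∧ Nat.card F = 2) := by omega
    exact QL.congr Φ.symm ⟨GenPsu.quasi h1 le_rfl h2, Or.inr (Or.inr (Or.inl ⟨Q.L, inferInstance, inferInstance,
      charP_of_injective_ringHom Q.φ.injective p, 3, _, h1, le_rfl, h2, ⟨MulEquiv.refl _⟩⟩))⟩
  push Not at hl
  obtain ⟨l, hl⟩ := hl
  obtain ⟨m, hm⟩ : ∃ m : F, tr e = l + m := ⟨tr e - l, by ring⟩
  have hnm : nm e = l * m := by
    rw [hm] at hl
    linear_combination hl
  have hml : m - l ≠ 0 := fun h0 => he (by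
    rw [dsc, hnm, hm, sub_eq_zero.1 h0]
    ring)
  obtain ⟨e', he'⟩ : ∃ e' : V F, e' = (m - l)⁻¹ • (e + (-l) • o) := ⟨_, rfl⟩
  have ht : tr e' = 1 := by
    rw [he', tr_smul, tr_add, tr_smul, tr_o, hm]
    field_simp
    ring
  have hn : nm e' = 0 := by
    rw [he', nm_smul, nm_add, nm_smul, bl_smul, bl_o, nm_o, hm, hnm]
    ring
  obtain ⟨h, hh, he1⟩ := exists_idem ht hn
  have h6 : e = l • o + (m - l) • e' := by
    rw [he', smul_smul, mul_inv_cancel₀ hml, one_smul, neg_smul]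
    abel
  have h7 : (MK e').map (MulAut.conj (⟨h, hh⟩ : AutO F)).toMonoidHom = MK e1 := by
    ext g
    rw [mem_map_equiv, mem_MK, mem_MK, ← he1]
    show h.symm ((g : V F ≃ₗ[F] V F) (h e')) = e' ↔ _
    rw [LinearEquiv.symm_apply_eq]
  rw [h6, H244.S3509G2.mk_affine _ hml]
  refine QL.congr (((H256.G2.eA F).trans (MulEquiv.subgroupCongr h7.symm)).trans
    ((MulAut.conj (⟨h, hh⟩ : AutO F)).subgroupMap _).symm) ⟨?_, Or.inl ⟨F, inferInstance, inferInstance, inferInstance, 3,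
      by omega, by omega, ⟨MulEquiv.refl _⟩⟩⟩
  exact SignalizersComponents.SLQuasisimple.isQuasisimple_of_three_le (by rw [Fintype.card_fin])

theorem det_one (g : AutO F) : LinearMap.det ((g : V F ≃ₗ[F] V F) : V F →ₗ[F] V F) = 1 := by
  have h1 : toE F ((toE F).symm g) = g := MulEquiv.apply_symm_apply _ _
  rw [← h1, toE_coe, LinearMap.det_toLin']
  exact H161.G2Main.det_eq_one hq (toE_mem.1 (h1.symm ▸ g.2))

/-- the centraliser of an element of odd order prime to the characteristic -/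
theorem cent_cases {x : AutO F} {r : ℕ} (hr : Odd r) (hp : ¬ p ∣ r) (hx : x ^ r = 1) (h1 : x ≠ 1) :
    (∃ (F' : Type) (_ : Field F') (_ : Fintype F') (_ : CharP F' p) (τ : centralizer ({x} : Set (AutO F)) →* GL (Fin 2) F'),
      Function.Injective τ) ∨ (x ^ 3 = 1 ∧ ∀ e : V F, x ∈ MK e → dsc e ≠ 0 → centralizer {x} = MK e) := by
  let φ := algebraMap F (AlgebraicClosure F)
  have hrK : (r : AlgebraicClosure F) ≠ 0 := fun h => hp ((CharP.cast_eq_zero_iff _ p r).1 h)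
  obtain ⟨h, hh, a, b, c, habc, hs0⟩ := exists_diag (E_mem φ x) hrK (by rw [← map_pow, hx, map_one]) (by
    have h2 : toE F ((toE F).symm x) = x := MulEquiv.apply_symm_apply _ _
    refine (det_emb φ _).trans ?_
    rw [H161.G2Main.det_eq_one hq (toE_mem.1 (h2.symm ▸ x.2)), map_one])
  let ψ : AutO F →* (V (AlgebraicClosure F) ≃ₗ[AlgebraicClosure F] V (AlgebraicClosure F)) :=
    (MulAut.conj h).toMonoidHom.comp (E φ)
  have hψ : Function.Injective ψ := (MulAut.conj h).injective.comp (E_inj φ)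
  have hm : ∀ u, ψ u ∈ AutO (AlgebraicClosure F) := fun u => mul_mem (mul_mem hh (E_mem φ u)) (inv_mem hh)
  have hs : ∀ y j, ψ x y j = dg a b c j * y j := fun y j => by
    rw [show ψ x y = _ from hs0 y]
    fin_cases j <;> simp [dg]
  have hpow : ∀ n y j, (ψ x ^ n) y j = dg a b c j ^ n * y j := fun n => by
    induction n with
    | zero => simp
    | succ n ih =>
      intro y j
      rw [pow_succ', LinearEquiv.mul_apply, hs, ih]
      ring
  have hodd : ∀ j, (dg a b c j)⁻¹ = dg a b c j → dg a b c j = 1 := fun j hj => by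
    have h2 := hpow r (sg j) j
    rw [← map_pow, hx, map_one] at h2
    obtain ⟨k, rfl⟩ := hr
    have h3 : dg a b c j ^ 2 = 1 := by
      rw [sq]
      nth_rw 1 [← hj]
      exact inv_mul_cancel₀ (dg_ne_zero habc j)
    rw [pow_succ, pow_mul, h3, one_pow, one_mul] at h2
    simpa using h2.symm
  have hcomm : ∀ u : AutO F, u ∈ centralizer {x} ↔ ∀ y, ψ u (ψ x y) = ψ x (ψ u y) := fun u => by
    rw [mem_centralizer_singleton_iff, ← hψ.eq_iff, map_mul, map_mul, LinearEquiv.ext_iff]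
    rfl
  by_cases hne : a = b ∧ b = c
  · obtain ⟨rfl, rfl⟩ := hne
    have a1 : a ≠ 1 := by
      rintro rfl
      refine h1 (hψ ?_)
      rw [map_one]
      ext y j
      rw [hs]
      fin_cases j <;> simp [dg]
    refine Or.inr ⟨hψ ?_, fun e he hd => ?_⟩
    · rw [map_pow, map_one]
      ext y j
      have h3 : a ^ 3 = 1 := by rw [← habc]; ring
      rw [hpow]
      fin_cases j <;> simp [dg, h3]
    have h2 : ∀ u : AutO F, u ∈ MK e ↔ ψ u (h (up φ e)) = h (up φ e) := fun u => by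
      rw [mem_MK, ← (up_inj φ).eq_iff, ← E_up, ← h.injective.eq_iff]
      show _ ↔ h (E φ u (h.symm (h _))) = _
      rw [LinearEquiv.symm_apply_apply]
    have h3 := mk_eq hs a1 ((h2 x).1 he) (by
      rw [dsc, map_tr hh, map_nm hh, up_tr, up_nm]
      intro h0
      refine hd (φ.injective ?_)
      rw [dsc, map_sub, map_pow, map_mul, map_zero, ← h0, map_ofNat])
    ext u
    rw [hcomm, comm_iff hs a1 (fun h0 => a1 (hodd 1 h0)) (hm u), h2]
    exact (SetLike.ext_iff.1 h3 ⟨ψ u, hm u⟩).symm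
  · obtain ⟨σ, hσ⟩ := emb_of_diag hs habc (hodd 1) (hodd 2) (hodd 3) hne (ψ.comp (centralizer {x}).subtype)
      (hψ.comp (subtype_injective _)) (fun u => hm u) fun u => (hcomm u).1 u.2
    have : Finite (AutO F) := Finite.of_injective (fun g : AutO F => ((g : V F ≃ₗ[F] V F) : V F → V F))
      fun _ _ h => Subtype.ext (DFunLike.coe_injective h)
    obtain ⟨F', _, _, _, τ, hτ⟩ := H898.EPX.descend (F := F) σ hσ (N := 2) (Module.finrank_fin_fun _)
    exact Or.inl ⟨F', inferInstance, inferInstance, charP_of_injective_algebraMap (algebraMap F F').injective p, τ, hτ⟩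

theorem exists_mk {x : AutO F} {r : ℕ} (hp : ¬ p ∣ r) (hx : x ^ r = 1) : ∃ e : V F, x ∈ MK e ∧ dsc e ≠ 0 :=
  exists_e' x.2 (det_one hq x) (fun h => hp ((CharP.cast_eq_zero_iff F p r).1 h)) (congrArg Subtype.val hx)

omit hq in
theorem exists_equiv : Nonempty (AutO F ≃* chevG2.group F) := by
  obtain ⟨e⟩ := H638.G2Iso.equiv (F := F)
  refine ⟨((toE F).symm.subgroupMap _).trans ((MulEquiv.subgroupCongr ?_).trans e)⟩
  ext g
  exact mem_map_equiv.trans toE_mem

end Fin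

end Cfsg.Agent.TH.ExG
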